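import Groth.Agent.SpTorsLib.Glue
import Groth.Agent.ASt.Fib
import Groth.Prelude.Def_AlgSt6

/-!
The category of torsors given as fppf sheaves is fibred in groupoids.
-/

set_option autoImplicit false
set_option backward.isDefEq.respectTransparency false
set_option backward.isDefEq.respectTransparency.types false

universe u

open CategoryTheory CategoryTheory.Limits AlgebraicGeometry MonoidalCategory CartesianMonoidalCategory MonObj Opposite

namespace Groth.Agent.SpTorsLib

open _root_.AlgSp Groth.Agent.ASp

variable {S : Scheme.{u}} {B : Sp S}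

/-- A square over `B` which is cartesian on underlying sheaves is cartesian. -/
theorem isPullback_of_left {P X Y Z : Over B} {fst : P ⟶ X} {snd : P ⟶ Y} {f : X ⟶ Z} {g : Y ⟶ Z}
    (h : IsPullback fst.left snd.left f.left g.left) : IsPullback fst snd f g :=
  IsPullback.of_map_of_faithful (F := Over.forget B) h

/-- The sections of a torsor along a base change. -/
theorem hasSecLoc_baseChange {T T' : Over S} (f : T' ⟶ T) {P P' : Sp S} {π : P ⟶ (yon S).obj T}
    {π' : P' ⟶ (yon S).obj T'} {p₁ : P' ⟶ P} (h : IsPullback p₁ π' π ((yon S).map f))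
    (hloc : AlgSt.HasSecLoc Scheme.fppfPrecoverage π) : AlgSt.HasSecLoc Scheme.fppfPrecoverage π' := by
  obtain ⟨R, hR, hs⟩ := hloc
  obtain ⟨J₀, W₀, f₀, rfl⟩ := Presieve.exists_eq_ofArrows R
  obtain ⟨h1, h2⟩ := (Scheme.ofArrows_mem_precoverage_iff _).1 hR
  have hs' := fun i => hs (f₀ i) (Presieve.ofArrows.mk i)
  choose s hsπ using hs'
  have hc : ∀ t : ↥T'.left, ∃ i, t ∈ Set.range (pullback.snd (f₀ i) f.left) := fun t => by
    obtain ⟨i, w, hw⟩ := h1 (f.left t)
    obtain ⟨z, -, hz⟩ := Scheme.Pullback.exists_preimage_pullback w t hw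
    exact ⟨i, z, hz⟩
  choose i hi using hc
  refine ⟨Presieve.ofArrows _ (fun t => pullback.snd (f₀ (i t)) f.left),
    (Scheme.ofArrows_mem_precoverage_iff _).2 ⟨fun t => ⟨t, hi t⟩, fun t => ⟨?_, ?_⟩⟩, ?_⟩
  · haveI := (h2 (i t)).1
    exact (inferInstance : Flat (pullback.snd (f₀ (i t)) f.left))
  · haveI := (h2 (i t)).2
    exact (inferInstance : LocallyOfFinitePresentation (pullback.snd (f₀ (i t)) f.left))
  rintro _ _ ⟨t⟩
  let j : Over.mk (pullback.snd (f₀ (i t)) f.left ≫ T'.hom) ⟶ Over.mk (f₀ (i t) ≫ T.hom) :=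
    Over.homMk (pullback.fst _ _) (by
      change pullback.fst _ _ ≫ f₀ (i t) ≫ T.hom = pullback.snd _ _ ≫ T'.hom
      rw [← Over.w f, pullback.condition_assoc])
  refine ⟨h.lift ((yon S).map j ≫ s (i t)) ((yon S).map (Over.homMk (pullback.snd _ _) rfl)) ?_,
    h.lift_snd _ _ _⟩
  rw [Category.assoc, hsπ, ← Functor.map_comp, ← Functor.map_comp]
  congr 1
  exact Over.OverMorphism.ext pullback.condition

variable {G : Over B} [GrpObj G] {X : Over B} {aX : GAction G X}

/-- The category of torsors given as sheaves is fibred in groupoids. -/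
theorem isFibGrpd_spQuot : FibCat.IsFibGrpd (AlgSt.SpQuotSt Scheme.fppfPrecoverage G aX).p where
  exists_lift := fun {x} {V} f => by
    let b' : (yon S).obj V ⟶ B := (yon S).map f ≫ x.b
    let β : Over.mk b' ⟶ Over.mk x.b := AlgSt.bHom f rfl
    let P' := pullback x.π β
    let p₁ : P' ⟶ x.P := pullback.fst _ _
    let π' : P' ⟶ Over.mk b' := pullback.snd _ _
    have hP : IsPullback p₁ π' x.π β := IsPullback.of_hasPullback _ _
    let a : G ⊗ P' ⟶ P' := hP.lift ((G ◁ p₁) ≫ x.act.act) (snd G P' ≫ π') (by
      rw [Category.assoc, x.cart.w, whiskerLeft_snd_assoc, Category.assoc, hP.w])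
    have ha₁ : a ≫ p₁ = (G ◁ p₁) ≫ x.act.act := hP.lift_fst _ _ _
    have ha₂ : a ≫ π' = snd G P' ≫ π' := hP.lift_snd _ _ _
    let act : GAction G P' :=
      { act := a
        one_act := hP.hom_ext (by
            rw [Category.assoc, ha₁, ← Category.assoc, ← whisker_exchange, Category.assoc, x.act.one_act,
              leftUnitor_hom, leftUnitor_hom, whiskerLeft_snd])
          (by rw [Category.assoc, ha₂, whiskerRight_snd_assoc, leftUnitor_hom])
        mul_act := hP.hom_ext (by
            rw [Category.assoc, ha₁, ← Category.assoc, ← whisker_exchange, Category.assoc, x.act.mul_act,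
              Category.assoc, Category.assoc, ha₁, ← MonoidalCategory.whiskerLeft_comp_assoc, ha₁,
              MonoidalCategory.whiskerLeft_comp_assoc, ← associator_naturality_right_assoc])
          (by rw [Category.assoc, ha₂, whiskerRight_snd_assoc, Category.assoc, Category.assoc, ha₂,
                whiskerLeft_snd_assoc, ha₂, associator_hom_snd_snd_assoc]) }
    have hc : IsPullback act.act (snd G P') π' π' := by
      refine IsPullback.of_right ?_ ha₂ hP
      rw [ha₁, ← hP.w]
      exact ((AlgSt.isPullback_whiskerLeft' p₁).paste_horiz x.cart)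
    let y : AlgSt.SpQuotObj Scheme.fppfPrecoverage G aX :=
      { base := V
        b := b'
        P := P'
        act := act
        π := π'
        cart := hc
        loc := hasSecLoc_baseChange f (hP.map (Over.forget B)) x.loc
        φ := p₁ ≫ x.φ
        eqv := by
          change a ≫ _ = _
          rw [← Category.assoc, ha₁, Category.assoc, x.eqv, MonoidalCategory.whiskerLeft_comp_assoc] }
    let ψ : y ⟶ x :=
      { base := f
        wb := rfl
        top := p₁
        eqv := ha₁
        cart := hP
        wφ := rfl }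
    exact ⟨y, ψ, IsHomLift.map (AlgSt.SpQuotObj.forget Scheme.fppfPrecoverage G aX) ψ⟩
  isStronglyCartesian := fun {y x} φ =>
    { universal_property' := fun {a'} g φ' hφ' => by
        have hg : g ≫ φ.base = φ'.base :=
          IsHomLift.eq_of_isHomLift (AlgSt.SpQuotObj.forget Scheme.fppfPrecoverage G aX)
            (g ≫ (AlgSt.SpQuotObj.forget Scheme.fppfPrecoverage G aX).map φ) φ'
        have wg : (yon S).map g ≫ y.b = a'.b := by
          rw [← φ.wb, ← Category.assoc, ← Functor.map_comp, ← φ'.wb, ← hg]
        have hb : AlgSt.bHom g wg ≫ AlgSt.bHom φ.base φ.wb = AlgSt.bHom φ'.base φ'.wb := by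
          apply Over.OverMorphism.ext
          change (yon S).map g ≫ (yon S).map φ.base = (yon S).map φ'.base
          rw [← hg, Functor.map_comp]
        let t : a'.P ⟶ y.P := φ.cart.lift φ'.top (a'.π ≫ AlgSt.bHom g wg) (by
          rw [φ'.cart.w, Category.assoc, hb])
        have ht₁ : t ≫ φ.top = φ'.top := φ.cart.lift_fst _ _ _
        have ht₂ : t ≫ y.π = a'.π ≫ AlgSt.bHom g wg := φ.cart.lift_snd _ _ _
        let χ : a' ⟶ y :=
          { base := g
            wb := wg
            top := t
            eqv := φ.cart.hom_ext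
              (by rw [Category.assoc, ht₁, φ'.eqv, Category.assoc, φ.eqv,
                ← MonoidalCategory.whiskerLeft_comp_assoc, ht₁])
              (by rw [Category.assoc, ht₂, Category.assoc, y.cart.w, whiskerLeft_snd_assoc, ht₂,
                ← Category.assoc, a'.cart.w, Category.assoc])
            cart := IsPullback.of_right (by rw [ht₁, hb]; exact φ'.cart) ht₂ φ.cart
            wφ := by rw [← φ.wφ, reassoc_of% ht₁, φ'.wφ] }
        refine ⟨χ, ⟨IsHomLift.map (AlgSt.SpQuotObj.forget Scheme.fppfPrecoverage G aX) χ,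
          AlgSt.SpQuotObj.hom_ext hg ht₁⟩, ?_⟩
        rintro χ' ⟨hχ', hc⟩
        have hbase : χ'.base = g :=
          (IsHomLift.eq_of_isHomLift (AlgSt.SpQuotObj.forget Scheme.fppfPrecoverage G aX) g χ').symm
        refine AlgSt.SpQuotObj.hom_ext hbase (φ.cart.hom_ext ?_ ?_)
        · change χ'.top ≫ φ.top = t ≫ φ.top
          rw [ht₁]
          exact congrArg (fun m => m.top) hc
        · change χ'.top ≫ y.π = t ≫ y.π
          rw [ht₂, χ'.cart.w]
          congr 1
          exact Over.OverMorphism.ext (congrArg (yon S).map hbase) }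

end Groth.Agent.SpTorsLib
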