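import Groth.Agent.SpTorsLib.Basic
import Groth.Agent.SpTorsLib.Fibred

/-!
Morphisms out of a torsor with a section, and properties of the projection of a torsor.
-/

set_option autoImplicit false
set_option backward.isDefEq.respectTransparency false
set_option backward.isDefEq.respectTransparency.types false

universe u

open CategoryTheory CategoryTheory.Limits AlgebraicGeometry MonoidalCategory CartesianMonoidalCategory MonObj Opposite

namespace Groth.Agent.SpTorsLib

open _root_.AlgSp Groth.Agent.ASp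

variable {S : Scheme.{u}} {B : Sp S} {G : Over B} [GrpObj G]

/-- The unit section of the trivial torsor. -/
noncomputable def unitSec (T : Over B) : T ⟶ G ⊗ T := lift (toUnit T ≫ η[G]) (𝟙 T)

theorem unitSec_snd (T : Over B) : unitSec (G := G) T ≫ snd G T = 𝟙 T := lift_snd _ _

theorem unitSec_natural {T' T : Over B} (f : T' ⟶ T) :
    unitSec T' ≫ (G ◁ f) = f ≫ unitSec (G := G) T := by
  apply CartesianMonoidalCategory.hom_ext
  · simp [unitSec]
  · simp [unitSec]

theorem unitSec_spLeftMul (T : Over B) :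
    (G ◁ unitSec T) ≫ (AlgSt.spLeftMul G T).act = 𝟙 (G ⊗ T) := by
  apply CartesianMonoidalCategory.hom_ext
  · simp [AlgSt.spLeftMul, unitSec, comp_mul, comp_lift, MonObj.one_eq_one]
  · simp [AlgSt.spLeftMul, unitSec, comp_lift]

local notation "BGObj" => AlgSt.SpQuotObj Scheme.fppfPrecoverage G (AlgSt.trivGAction G)

theorem homTriv_eqv {T : Over B} {P : Over B} (a : GAction G P) (σ : T ⟶ P) :
    (AlgSt.spLeftMul G T).act ≫ (G ◁ σ) ≫ a.act = (G ◁ ((G ◁ σ) ≫ a.act)) ≫ a.act := by
  have hm : (G ◁ a.act) ≫ a.act = (α_ G G P).inv ≫ (μ[G] ▷ P) ≫ a.act := by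
    rw [a.mul_act, Iso.inv_hom_id_assoc]
  have hμ : fst (G ⊗ G) P ≫ μ[G] = (fst _ _ ≫ fst G G) * (fst _ _ ≫ snd G G) := by
    rw [Hom.mul_def, ← comp_lift, lift_fst_snd, Category.comp_id]
  have h : (AlgSt.spLeftMul G T).act ≫ (G ◁ σ) = (G ◁ (G ◁ σ)) ≫ (α_ G G P).inv ≫ (μ[G] ▷ P) := by
    apply CartesianMonoidalCategory.hom_ext
    · simp [AlgSt.spLeftMul, comp_lift, comp_mul, hμ]
    · simp [AlgSt.spLeftMul, comp_lift]
  rw [MonoidalCategory.whiskerLeft_comp, Category.assoc, hm, reassoc_of% h]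

/-- A section of a torsor over its whole base. -/
structure Sect (A : BGObj) where
  σ : Over.mk A.b ⟶ A.P
  w : σ ≫ A.π = 𝟙 _

/-- The trivialisation given by a section. -/
noncomputable def Sect.triv {A : BGObj} (s : Sect A) : G ⊗ Over.mk A.b ⟶ A.P := (G ◁ s.σ) ≫ A.act.act

theorem Sect.triv_π {A : BGObj} (s : Sect A) : s.triv ≫ A.π = snd G _ := by
  rw [Sect.triv, (isPullback_triv A s.σ).w, s.w, Category.comp_id]

instance Sect.isIso_triv {A : BGObj} (s : Sect A) : IsIso s.triv := by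
  have h := isPullback_triv A s.σ
  rw [s.w] at h
  exact h.isIso_fst_of_isIso

theorem Sect.existsUnique_hom {A' A : BGObj} (s : Sect A') (f : A'.base ⟶ A.base)
    (wb : (yon S).map f ≫ A.b = A'.b) (l : Over.mk A'.b ⟶ A.P) (hl : l ≫ A.π = AlgSt.bHom f wb) :
    ∃! m : A' ⟶ A, m.base = f ∧ s.σ ≫ m.top = l := by
  let t := inv s.triv ≫ (G ◁ l) ≫ A.act.act
  have ht : s.triv ≫ t = (G ◁ l) ≫ A.act.act := IsIso.hom_inv_id_assoc _ _
  have key : unitSec (Over.mk A'.b) ≫ s.triv = s.σ := by
    rw [Sect.triv, ← Category.assoc, unitSec_natural, unitSec, comp_lift, Category.comp_id,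
      ← Category.assoc, comp_toUnit]
    have h1 : lift (toUnit (Over.mk A'.b) ≫ η[G]) s.σ =
        s.σ ≫ lift (toUnit _ ≫ η[G]) (𝟙 A'.P) := by
      rw [comp_lift, Category.comp_id, ← Category.assoc, comp_toUnit]
    have h2 : lift (toUnit A'.P ≫ η[G]) (𝟙 A'.P) = (λ_ A'.P).inv ≫ (η[G] ▷ A'.P) := by
      apply CartesianMonoidalCategory.hom_ext
      · simp
      · simp
    rw [h1, Category.assoc, h2, Category.assoc, A'.act.one_act, Iso.inv_hom_id, Category.comp_id]
  have hσt : s.σ ≫ t = l := by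
    rw [← key, Category.assoc, ht, ← Category.assoc, unitSec_natural, Category.assoc]
    have h2 : unitSec A.P ≫ A.act.act = 𝟙 A.P := by
      have h3 : unitSec (G := G) A.P = (λ_ A.P).inv ≫ (η[G] ▷ A.P) := by
        apply CartesianMonoidalCategory.hom_ext
        · simp [unitSec]
        · simp [unitSec]
      rw [h3, Category.assoc, A.act.one_act, Iso.inv_hom_id]
    rw [h2, Category.comp_id]
  have hts : (G ◁ s.triv) ≫ A'.act.act = (AlgSt.spLeftMul G _).act ≫ s.triv :=
    (homTriv_eqv A'.act s.σ).symm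
  let m : A' ⟶ A :=
    { base := f
      wb := wb
      top := t
      eqv := by
        rw [← cancel_epi (G ◁ s.triv), ← Category.assoc, hts, Category.assoc, ht, homTriv_eqv,
          ← MonoidalCategory.whiskerLeft_comp_assoc G s.triv, ht]
      cart := by
        have h := isPullback_triv A l
        rw [hl] at h
        refine h.of_iso (asIso s.triv) (Iso.refl _) (Iso.refl _) (Iso.refl _) ?_ ?_ (by simp) (by simp)
        · simp [ht]
        · simp [Sect.triv_π]
      wφ := toUnit_unique _ _ }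
  refine ⟨m, ⟨rfl, hσt⟩, fun m' hm' => AlgSt.SpQuotObj.hom_ext hm'.1 ?_⟩
  rw [← cancel_epi s.triv]
  change _ = s.triv ≫ t
  rw [ht, Sect.triv, Category.assoc, m'.eqv, ← MonoidalCategory.whiskerLeft_comp_assoc, hm'.2]

theorem Sect.hom_ext {A' A : BGObj} (s : Sect A') {m m' : A' ⟶ A} (h₁ : m.base = m'.base)
    (h₂ : s.σ ≫ m.top = s.σ ≫ m'.top) : m = m' := by
  refine (s.existsUnique_hom m'.base m'.wb (s.σ ≫ m'.top) ?_).unique ⟨h₁, h₂⟩ ⟨rfl, rfl⟩
  rw [Category.assoc, m'.cart.w, ← Category.assoc, s.w, Category.id_comp]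

/-- A section of the target over the source of a morphism gives a section of the source. -/
noncomputable def Sect.pull {A' A : BGObj} (m : A' ⟶ A) (l : Over.mk A'.b ⟶ A.P)
    (hl : l ≫ A.π = AlgSt.bHom m.base m.wb) : Sect A' where
  σ := m.cart.lift l (𝟙 _) (hl.trans (Category.id_comp _).symm)
  w := m.cart.lift_snd _ _ _

theorem Sect.pull_top {A' A : BGObj} (m : A' ⟶ A) (l : Over.mk A'.b ⟶ A.P)
    (hl : l ≫ A.π = AlgSt.bHom m.base m.wb) : (Sect.pull m l hl).σ ≫ m.top = l :=
  m.cart.lift_fst _ _ _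

/-- The projection of a torsor under `G` has every property local on the base that `G` has. -/
theorem prop_π {P : MorphismProperty (Sp S)} [P.IsStableUnderBaseChange] (hloc : IsLocalOnBase IsFppfCover P)
    (hB : IsAlgSpace B) (hG : IsAlgSpace G.left) (hP : P G.hom) {X : Over B} {aX : GAction G X}
    (A : AlgSt.SpQuotObj Scheme.fppfPrecoverage G aX) : P A.π.left := by
  obtain ⟨R, hR, hsec⟩ := A.loc
  obtain ⟨J₀, W₀, f₀, rfl⟩ := Presieve.exists_eq_ofArrows R
  obtain ⟨h1, h2⟩ := (Scheme.ofArrows_mem_precoverage_iff _).1 hR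
  choose i w hw using h1
  let f := fun t => f₀ (i t)
  have hc : Presieve.ofArrows _ f ∈ Scheme.fppfPrecoverage A.base.left :=
    (Scheme.ofArrows_mem_precoverage_iff _).2 ⟨fun t => ⟨t, w t, hw t⟩, fun t => h2 (i t)⟩
  choose s hs using fun t => hsec (f t) (Presieve.ofArrows.mk (i t))
  let X' := fun t => (Over.mk (s t ≫ A.P.hom) : Over B)
  let σ := fun t => (Over.homMk (s t) rfl : X' t ⟶ A.P)
  refine (hloc (fun t => (yon S).obj (Over.mk (f t ≫ A.base.hom)))
    (fun t => (yon S).map (Over.homMk (f t))) (IsAlgSpace.yon_obj _) (fun t => IsAlgSpace.yon_obj _)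
    (isFppfCover_yon _ f hc) _ (isAlgSpace_P hB hG A) (fun t => (G ⊗ X' t).left) (fun t => (snd G (X' t)).left)
    (fun t => ((G ◁ σ t) ≫ A.act.act).left)
    (fun t => isAlgSpace_pullback hB.diag hG (IsAlgSpace.yon_obj _) G.hom (X' t).hom) fun t => ?_).2 fun t => ?_
  · have h := isPullback_left (isPullback_triv A (σ t))
    have e : (σ t ≫ A.π).left = (yon S).map (Over.homMk (f t)) := hs t
    rw [e] at h
    exact h
  · exact MorphismProperty.pullback_snd _ _ hP

end Groth.Agent.SpTorsLib
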