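import Groth.Agent.SpTorsLib.Fibred
import Groth.Agent.RepOne.Desc
import Groth.Agent.ASp.CellSheaf

/-!
Torsors given as fppf sheaves, with an equivariant map, form a stack in groupoids.
-/

set_option autoImplicit false
set_option backward.isDefEq.respectTransparency false
set_option backward.isDefEq.respectTransparency.types false

universe u

open CategoryTheory CategoryTheory.Limits AlgebraicGeometry MonoidalCategory CartesianMonoidalCategory Opposite

namespace Groth.Agent.SpTorsLib

open _root_.AlgSp Groth.Agent.ASp Groth.Agent.RepOne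

variable {S : Scheme.{u}} {B : Sp S}

/-- A cartesian square stays cartesian when its verticals are extended by compatible isomorphisms. -/
theorem isPullback_extend {P X A C A' C' : Sp S} {fst : P ⟶ X} {snd : P ⟶ A} {f : X ⟶ C} {g : A ⟶ C}
    (h : IsPullback fst snd f g) (α : A ⟶ A') [IsIso α] (β : C ⟶ C') [IsIso β] {g' : A' ⟶ C'}
    (w : g ≫ β = α ≫ g') : IsPullback fst (snd ≫ α) (f ≫ β) g' :=
  h.paste_vert (IsPullback.of_vert_isIso ⟨w⟩)

variable {G : Over B} [GrpObj G] {X : Over B} {aX : GAction G X} {U : Over S} {R : Sieve U}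
  (D : Stk.sieveCat R ⥤ᵇ AlgSt.SpQuotSt Scheme.fppfPrecoverage G aX)

theorem datum_map_base {s t : (Stk.sieveCat R).obj} (m : s ⟶ t) :
    (D.map m).base = eqToHom (D.w_obj s) ≫ m.hom.left ≫ eqToHom (D.w_obj t).symm :=
  ASt.map_w D m

/-- The projection of the torsor over a member of the sieve. -/
noncomputable abbrev datQ (s : (Stk.sieveCat R).obj) : (D.obj s).P.left ⟶ (yon S).obj s.obj.left :=
  (D.obj s).π.left ≫ (yon S).map (eqToHom (D.w_obj s))

/-- The total sheaves of a descent datum of torsors. -/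
noncomputable def datum : GData R where
  F s := (D.obj s).P.left
  q s := datQ D s
  map m := (D.map m).top.left
  cart {s t} m := isPullback_extend ((D.map m).cart.map (Over.forget B)) _ _ (by
    change (yon S).map (D.map m).base ≫ _ = _
    rw [datum_map_base, ← Functor.map_comp, ← Functor.map_comp]
    simp)
  map_comp m n := by
    change (D.toFunctor.map (m ≫ n)).top.left = _
    rw [D.toFunctor.map_comp]
    rfl

/-- The datum tensored with an object over the base sheaf. -/
noncomputable def tens (Y : Over B) : GData R where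
  F s := (Y ⊗ (D.obj s).P).left
  q s := (snd Y (D.obj s).P).left ≫ datQ D s
  map m := (Y ◁ (D.map m).top).left
  cart {s t} m := by
    letI : GrpObj G := inferInstance
    have h : IsPullback (Y ◁ (D.map m).top) (snd Y (D.obj s).P) (snd Y (D.obj t).P) (D.map m).top :=
      IsPullback.of_right (by simpa using AlgSt.isPullback_fst_snd' Y (D.obj s).P) (by simp)
        (AlgSt.isPullback_fst_snd' Y (D.obj t).P)
    exact (h.map (Over.forget B)).paste_vert ((datum D).cart m)
  map_comp m n := by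
    change (Y ◁ (D.toFunctor.map (m ≫ n)).top).left = _
    rw [D.toFunctor.map_comp, AlgSt.SpQuotObj.comp_top, MonoidalCategory.whiskerLeft_comp]
    rfl

variable {D}

/-- A sheaf over `B` glued from the torsors of a descent datum. -/
structure DGlued {P : Over B} (r : P.left ⟶ (yon S).obj U) (ι : ∀ s, (D.obj s).P ⟶ P) : Prop where
  isGlued : IsGlued (datum D) r (fun s => (ι s).left)

variable {P : Over B} {r : P.left ⟶ (yon S).obj U} {ι : ∀ s, (D.obj s).P ⟶ P}

theorem DGlued.nat (h : DGlued r ι) {s t : (Stk.sieveCat R).obj} (m : s ⟶ t) : (D.map m).top ≫ ι t = ι s :=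
  Over.OverMorphism.ext (h.isGlued.nat m)

theorem DGlued.tens (h : DGlued r ι) (Y : Over B) :
    IsGlued (SpTorsLib.tens D Y) ((snd Y P).left ≫ r) (fun s => (Y ◁ ι s).left) where
  nat {s t} m := by
    change (Y ◁ (D.map m).top).left ≫ _ = _
    rw [← Over.comp_left, ← MonoidalCategory.whiskerLeft_comp, h.nat]
  cart s := by
    have hY : IsPullback (Y ◁ ι s) (snd Y (D.obj s).P) (snd Y P) (ι s) :=
      IsPullback.of_right (by simpa using AlgSt.isPullback_fst_snd' Y (D.obj s).P) (by simp)
        (AlgSt.isPullback_fst_snd' Y P)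
    exact (hY.map (Over.forget B)).paste_vert (h.isGlued.cart s)

theorem DGlued.hom_ext (h : DGlued r ι) (hR : R ∈ (J S) U) {Z : Over B} {f g : P ⟶ Z}
    (e : ∀ s, ι s ≫ f = ι s ≫ g) : f = g :=
  Over.OverMorphism.ext (h.isGlued.hom_ext hR fun s => congrArg (fun k => k.left) (e s))

theorem DGlued.tens_hom_ext (h : DGlued r ι) (hR : R ∈ (J S) U) {Y Z : Over B} {f g : Y ⊗ P ⟶ Z}
    (e : ∀ s, (Y ◁ ι s) ≫ f = (Y ◁ ι s) ≫ g) : f = g :=
  Over.OverMorphism.ext ((h.tens Y).hom_ext hR fun s => congrArg (fun k => k.left) (e s))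

theorem DGlued.existsUnique_desc (h : DGlued r ι) (hR : R ∈ (J S) U) {Z : Over B} (f : ∀ s, (D.obj s).P ⟶ Z)
    (hf : ∀ {s t} (m : s ⟶ t), (D.map m).top ≫ f t = f s) : ∃! g : P ⟶ Z, ∀ s, ι s ≫ g = f s := by
  obtain ⟨g, hg, -⟩ := h.isGlued.existsUnique_desc hR (fun s => (f s).left) fun m =>
    congrArg (fun k => k.left) (hf m)
  have w : g ≫ Z.hom = P.hom := h.isGlued.hom_ext hR fun s => by
    rw [← Category.assoc, hg s]
    exact (Over.w (f s)).trans (Over.w (ι s)).symm
  exact ⟨Over.homMk g w, fun s => Over.OverMorphism.ext (hg s),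
    fun g' hg' => h.hom_ext hR fun s => (hg' s).trans (Over.OverMorphism.ext (hg s)).symm⟩

theorem DGlued.tens_existsUnique_desc (h : DGlued r ι) (hR : R ∈ (J S) U) {Y Z : Over B}
    (f : ∀ s, Y ⊗ (D.obj s).P ⟶ Z) (hf : ∀ {s t} (m : s ⟶ t), (Y ◁ (D.map m).top) ≫ f t = f s) :
    ∃! g : Y ⊗ P ⟶ Z, ∀ s, (Y ◁ ι s) ≫ g = f s := by
  obtain ⟨g, hg, -⟩ := (h.tens Y).existsUnique_desc hR (fun s => (f s).left) fun m =>
    congrArg (fun k => k.left) (hf m)
  have w : g ≫ Z.hom = (Y ⊗ P).hom := (h.tens Y).hom_ext hR fun s => by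
    rw [← Category.assoc, hg s]
    exact (Over.w (f s)).trans (Over.w (Y ◁ ι s)).symm
  exact ⟨Over.homMk g w, fun s => Over.OverMorphism.ext (hg s),
    fun g' hg' => h.tens_hom_ext hR fun s => (hg' s).trans (Over.OverMorphism.ext (hg s)).symm⟩

section Cone

variable (c : SCone D)

/-- The projection of a cone to the base of the sieve. -/
noncomputable abbrev coneR : c.pt.P.left ⟶ (yon S).obj U :=
  c.pt.π.left ≫ (yon S).map (eqToHom c.base)

theorem cone_ι_base (s : (Stk.sieveCat R).obj) :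
    (c.ι s).base = eqToHom (D.w_obj s) ≫ s.obj.hom ≫ eqToHom c.base.symm :=
  c.map_ι s

theorem dGlued_cone : DGlued (coneR c) (fun s => (c.ι s).top) where
  isGlued :=
    { nat := fun {s t} m => congrArg (fun k => k.top.left) (c.nat m)
      cart := fun s => isPullback_extend ((c.ι s).cart.map (Over.forget B)) _ _ (by
        change (yon S).map (c.ι s).base ≫ _ = _
        rw [cone_ι_base, ← Functor.map_comp, ← Functor.map_comp]
        simp) }

theorem cone_b (s : (Stk.sieveCat R).obj) :
    (yon S).map s.obj.hom ≫ (yon S).map (eqToHom c.base.symm) ≫ c.pt.b =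
      (yon S).map (eqToHom (D.w_obj s).symm) ≫ (D.obj s).b := by
  rw [← (c.ι s).wb, cone_ι_base]
  simp [eqToHom_map]

theorem cone_hom_unique_base {c c' : SCone D} (h : c.pt ⟶ c'.pt)
    (hh : (AlgSt.SpQuotSt Scheme.fppfPrecoverage G aX).p.map h = eqToHom (c.base.trans c'.base.symm)) :
    h.base = eqToHom (c.base.trans c'.base.symm) := hh

theorem sConeUniq (hR : R ∈ (J S) U) (c c' : SCone D) :
    ∃! h : c.pt ⟶ c'.pt,
      (AlgSt.SpQuotSt Scheme.fppfPrecoverage G aX).p.map h = eqToHom (c.base.trans c'.base.symm) ∧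
      ∀ s, c.ι s ≫ h = c'.ι s := by
  obtain ⟨t, ht, -⟩ := (dGlued_cone c).existsUnique_desc hR (fun s => (c'.ι s).top)
    fun m => congrArg (fun k => k.top) (c'.nat m)
  obtain ⟨t', ht', -⟩ := (dGlued_cone c').existsUnique_desc hR (fun s => (c.ι s).top)
    fun m => congrArg (fun k => k.top) (c.nat m)
  have h1 : t ≫ t' = 𝟙 _ := (dGlued_cone c).hom_ext hR fun s => by
    rw [← Category.assoc, ht, ht', Category.comp_id]
  have h2 : t' ≫ t = 𝟙 _ := (dGlued_cone c').hom_ext hR fun s => by
    rw [← Category.assoc, ht', ht, Category.comp_id]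
  haveI : IsIso t := ⟨t', h1, h2⟩
  let e : c.pt.base ⟶ c'.pt.base := eqToHom (c.base.trans c'.base.symm)
  have wb : (yon S).map e ≫ c'.pt.b = c.pt.b := by
    rw [← cancel_epi ((yon S).map (eqToHom c.base.symm))]
    refine hom_ext_sieve hR fun W k hk => ?_
    refine Eq.trans ?_ (cone_b c ⟨Over.mk k, hk⟩).symm
    refine Eq.trans ?_ (cone_b c' ⟨Over.mk k, hk⟩)
    simp [e, eqToHom_map]
  have hπ : t ≫ c'.pt.π = c.pt.π ≫ AlgSt.bHom e wb := by
    apply Over.OverMorphism.ext
    change t.left ≫ c'.pt.π.left = c.pt.π.left ≫ (yon S).map e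
    rw [← cancel_mono ((yon S).map (eqToHom c'.base))]
    refine (dGlued_cone c).isGlued.hom_ext hR fun s => ?_
    simp only [Category.assoc]
    rw [reassoc_of% (show (c.ι s).top.left ≫ t.left = (c'.ι s).top.left from
      congrArg (fun k => k.left) (ht s))]
    refine ((dGlued_cone c').isGlued.cart s).w.trans (((dGlued_cone c).isGlued.cart s).w.symm.trans ?_)
    simp [coneR, e, eqToHom_map]
  haveI : IsIso e := inferInstance
  haveI : IsIso (AlgSt.bHom e wb) := by
    haveI : IsIso ((Over.forget B).map (AlgSt.bHom e wb)) :=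
      (inferInstance : IsIso ((yon S).map e))
    exact isIso_of_reflects_iso (AlgSt.bHom e wb) (Over.forget B)
  let h : c.pt ⟶ c'.pt :=
    { base := e
      wb := wb
      top := t
      eqv := (dGlued_cone c).tens_hom_ext hR fun s => by
        rw [← Category.assoc, ← (c.ι s).eqv, Category.assoc, ht, (c'.ι s).eqv,
          ← MonoidalCategory.whiskerLeft_comp_assoc, ht]
      cart := IsPullback.of_horiz_isIso ⟨hπ⟩
      wφ := (dGlued_cone c).hom_ext hR fun s => by
        rw [← Category.assoc, ht, (c'.ι s).wφ, (c.ι s).wφ] }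
  refine ⟨h, ⟨rfl, fun s => AlgSt.SpQuotObj.hom_ext ?_ (ht s)⟩, fun h' hh' => ?_⟩
  · change (c.ι s).base ≫ e = (c'.ι s).base
    rw [cone_ι_base, cone_ι_base]
    simp [e]
  · refine AlgSt.SpQuotObj.hom_ext hh'.1 ((dGlued_cone c).hom_ext hR fun s => ?_)
    change _ = (c.ι s).top ≫ t
    rw [ht]
    exact congrArg (fun k => k.top) (hh'.2 s)

end Cone

theorem hasSecLoc_glue (hR : R ∈ (J S) U) {P₀ : Sp S} {π : P₀ ⟶ (yon S).obj U}
    (ι₀ : ∀ s : (Stk.sieveCat R).obj, (D.obj s).P.left ⟶ P₀)
    (h : ∀ s, ι₀ s ≫ π = datQ D s ≫ (yon S).map s.obj.hom) :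
    AlgSt.HasSecLoc Scheme.fppfPrecoverage π := by
  obtain ⟨κ, Y, k, hk, hfl, hfp, hsur⟩ := Cell.exists_fppf_family hR
  have hloc := fun x => (D.obj ⟨Over.mk (k x), hk x⟩).loc
  choose Rx hRx hsec using hloc
  choose J₀ W₀ f₀ hR₀ using fun x => Presieve.exists_eq_ofArrows (Rx x)
  have hR' := fun x => (Scheme.ofArrows_mem_precoverage_iff _).1 (hR₀ x ▸ hRx x)
  let eb := fun x => D.w_obj (⟨Over.mk (k x), hk x⟩ : (Stk.sieveCat R).obj)
  let g := fun x (i : J₀ x) => f₀ x i ≫ (eqToHom (eb x)).left ≫ (k x).left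
  have hc : ∀ t : ↥U.left, ∃ x i, t ∈ Set.range (g x i) := fun t => by
    obtain ⟨x, y, hy⟩ := hsur t
    obtain ⟨i, w, hw⟩ := (hR' x).1 ((eqToHom (eb x).symm).left y)
    refine ⟨x, i, w, ?_⟩
    change (k x).left ((eqToHom (eb x)).left (f₀ x i w)) = t
    rw [hw, ← hy]
    congr 1
    rw [← Scheme.Hom.comp_apply, ← Over.comp_left, eqToHom_trans]
    rfl
  choose xx ii hi using hc
  refine ⟨Presieve.ofArrows _ (fun t => g (xx t) (ii t)),
    (Scheme.ofArrows_mem_precoverage_iff _).2 ⟨fun t => ⟨t, hi t⟩, fun t => ?_⟩, ?_⟩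
  · haveI := hfl (xx t)
    haveI := hfp (xx t)
    haveI := ((hR' (xx t)).2 (ii t)).1
    haveI := ((hR' (xx t)).2 (ii t)).2
    exact ⟨(inferInstance : Flat (g (xx t) (ii t))),
      (inferInstance : LocallyOfFinitePresentation (g (xx t) (ii t)))⟩
  rintro _ _ ⟨t⟩
  obtain ⟨σ, hσ⟩ := hsec (xx t) (f₀ _ (ii t)) (hR₀ (xx t) ▸ Presieve.ofArrows.mk (ii t))
  let d : Over.mk (g (xx t) (ii t) ≫ U.hom) ⟶
      Over.mk (f₀ _ (ii t) ≫ (D.obj ⟨Over.mk (k (xx t)), hk (xx t)⟩).base.hom) :=
    Over.homMk (𝟙 _) (by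
      change 𝟙 _ ≫ f₀ _ (ii t) ≫ _ = g (xx t) (ii t) ≫ U.hom
      simp only [g, Category.id_comp, Category.assoc, Over.w (k (xx t))]
      exact congrArg (f₀ _ (ii t) ≫ ·) (Over.w (eqToHom (eb (xx t)))).symm)
  refine ⟨(yon S).map d ≫ σ ≫ ι₀ _, ?_⟩
  refine ((Category.assoc _ _ _).trans (congrArg ((yon S).map d ≫ ·)
    ((Category.assoc _ _ _).trans ((congrArg (σ ≫ ·) (h _)).trans ((congrArg (σ ≫ ·)
      (Category.assoc _ _ _)).trans ((Category.assoc _ _ _).symm.trans (congrArg (· ≫ _) hσ))))))).trans ?_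
  rw [← Functor.map_comp, ← Functor.map_comp, ← Functor.map_comp]
  congr 1

theorem sGlue (hR : R ∈ (J S) U) : Nonempty (SCone D) := by
  obtain ⟨b, hb, -⟩ := existsUnique_sieve hR (F := B)
    (fun W k hk => (yon S).map (eqToHom (D.w_obj ⟨Over.mk k, hk⟩).symm) ≫ (D.obj ⟨Over.mk k, hk⟩).b)
    (fun W W' k hk j => by
      let m : (⟨Over.mk (j ≫ k), R.downward_closed hk j⟩ : (Stk.sieveCat R).obj) ⟶ ⟨Over.mk k, hk⟩ :=
        ObjectProperty.homMk (Over.homMk j rfl)
      rw [← (D.map m).wb, datum_map_base]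
      simp [m, eqToHom_map])
  have hb' : ∀ s : (Stk.sieveCat R).obj,
      (yon S).map (eqToHom (D.w_obj s)) ≫ (yon S).map s.obj.hom ≫ b = (D.obj s).b := fun s => by
    have h : (yon S).map s.obj.hom ≫ b = (yon S).map (eqToHom (D.w_obj s).symm) ≫ (D.obj s).b :=
      hb s.obj.hom s.property
    rw [h, ← Category.assoc, ← Functor.map_comp, eqToHom_trans, eqToHom_refl, CategoryTheory.Functor.map_id,
      Category.id_comp]
  obtain ⟨P₀, r, ι₀, hg⟩ := exists_glued (datum D)
  have hw : ∀ s, ι₀ s ≫ r ≫ b = (D.obj s).P.hom := fun s => by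
    rw [← Category.assoc, (hg.cart s).w]
    change (datQ D s ≫ (yon S).map s.obj.hom) ≫ b = _
    rw [datQ, Category.assoc, Category.assoc, hb']
    exact Over.w (D.obj s).π
  let P : Over B := Over.mk (r ≫ b)
  let ι : ∀ s, (D.obj s).P ⟶ P := fun s => Over.homMk (ι₀ s) (hw s)
  have hG : DGlued (P := P) r ι := ⟨hg⟩
  let π : P ⟶ Over.mk b := Over.homMk r rfl
  have hιπ : ∀ s, (ι s).left ≫ π.left = (D.obj s).π.left ≫ (yon S).map (eqToHom (D.w_obj s) ≫ s.obj.hom) :=
    fun s => by
      rw [Functor.map_comp, ← Category.assoc]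
      exact (hg.cart s).w
  obtain ⟨a, ha, -⟩ := hG.tens_existsUnique_desc hR (fun s => (D.obj s).act.act ≫ ι s) (fun {s t} m => by
    rw [← Category.assoc, ← (D.map m).eqv, Category.assoc, hG.nat])
  obtain ⟨φ, hφ, -⟩ := hG.existsUnique_desc hR (fun s => (D.obj s).φ) (fun m => (D.map m).wφ)
  let act : GAction G P :=
    { act := a
      one_act := hG.tens_hom_ext hR fun s => by
        rw [← Category.assoc, whisker_exchange, Category.assoc, ha, ← Category.assoc, (D.obj s).act.one_act,
          leftUnitor_hom, leftUnitor_hom, whiskerLeft_snd]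
      mul_act := hG.tens_hom_ext hR fun s => by
        rw [← Category.assoc, whisker_exchange, Category.assoc, ha, ← Category.assoc, (D.obj s).act.mul_act,
          associator_naturality_right_assoc, ← MonoidalCategory.whiskerLeft_comp_assoc, ha]
        simp only [Category.assoc, MonoidalCategory.whiskerLeft_comp]
        rw [ha] }
  have hw' : a ≫ π = snd G P ≫ π := hG.tens_hom_ext hR fun s => by
    rw [← Category.assoc, ha, whiskerLeft_snd_assoc]
    apply Over.OverMorphism.ext
    simp only [Over.comp_left, Category.assoc, hιπ]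
    rw [← Category.assoc, ← Over.comp_left, (D.obj s).cart.w, Over.comp_left, Category.assoc]
  have hcart : IsPullback a (snd G P) π π := by
    refine isPullback_of_left ?_
    refine isPullback_of_local hR (congrArg (fun k => k.left) hw') (𝟙 _) fun W p₁ p₂ e t et ht => ?_
    rw [Category.comp_id] at et
    let s : (Stk.sieveCat R).obj := ⟨Over.mk t, ht⟩
    obtain ⟨l₁, ⟨hl₁, hl₁q⟩, hu₁⟩ := hg.exists_pt ht p₁ et
    obtain ⟨l₂, ⟨hl₂, hl₂q⟩, hu₂⟩ := hg.exists_pt ht p₂ (e.symm.trans et)
    have hsq := (D.obj s).cart.map (Over.forget B)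
    have e' : l₁ ≫ (D.obj s).π.left = l₂ ≫ (D.obj s).π.left := by
      rw [← cancel_mono ((yon S).map (eqToHom (D.w_obj s))), Category.assoc, Category.assoc]
      exact hl₁q.trans hl₂q.symm
    let z : (yon S).obj W ⟶ (G ⊗ (D.obj s).P).left := hsq.lift l₁ l₂ e'
    refine ⟨z ≫ (G ◁ ι s).left, ⟨?_, ?_⟩, fun l' hl' => ?_⟩
    · rw [Category.assoc, ← Over.comp_left, ha, Over.comp_left]
      exact ((Category.assoc _ _ _).symm.trans (congrArg (· ≫ (ι s).left) (hsq.lift_fst _ _ _))).trans hl₁
    · rw [Category.assoc, ← Over.comp_left, whiskerLeft_snd, Over.comp_left]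
      exact ((Category.assoc _ _ _).symm.trans (congrArg (· ≫ (ι s).left) (hsq.lift_snd _ _ _))).trans hl₂
    · have hr' : l' ≫ (snd G P).left ≫ r = (yon S).map t := by
        rw [← Category.assoc, hl'.2]
        exact e.symm.trans et
      obtain ⟨z', ⟨hz', hz'q⟩, -⟩ := (hG.tens G).exists_pt ht l' hr'
      have hz₂ : z' ≫ (snd G (D.obj s).P).left = l₂ := hu₂ _ ⟨by
          rw [← hl'.2, ← hz']
          rw [Category.assoc, Category.assoc]
          refine congrArg (z' ≫ ·) ?_
          exact (congrArg (fun k => k.left) (whiskerLeft_snd G (ι s))).symm,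
        (Category.assoc _ _ _).trans hz'q⟩
      have hz₁ : z' ≫ (D.obj s).act.act.left = l₁ := hu₁ _ ⟨by
          rw [← hl'.1, ← hz']
          rw [Category.assoc, Category.assoc]
          refine congrArg (z' ≫ ·) ?_
          exact (congrArg (fun k => k.left) (ha s)).symm, by
          change (z' ≫ (D.obj s).act.act.left) ≫ (D.obj s).π.left ≫ _ = _
          rw [Category.assoc, ← Category.assoc (D.obj s).act.act.left, ← Over.comp_left, (D.obj s).cart.w,
            Over.comp_left, Category.assoc]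
          exact hz'q⟩
      have : z' = z := hsq.hom_ext (hz₁.trans (hsq.lift_fst _ _ _).symm) (hz₂.trans (hsq.lift_snd _ _ _).symm)
      rw [← hz', this]
  let pt : AlgSt.SpQuotObj Scheme.fppfPrecoverage G aX :=
    { base := U
      b := b
      P := P
      act := act
      π := π
      cart := hcart
      loc := hasSecLoc_glue hR ι₀ (fun s => (hg.cart s).w)
      φ := φ
      eqv := hG.tens_hom_ext hR fun s => by
        change (G ◁ ι s) ≫ a ≫ φ = _
        rw [← Category.assoc, ha, Category.assoc, hφ, (D.obj s).eqv, ← MonoidalCategory.whiskerLeft_comp_assoc, hφ] }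
  let cι : ∀ s, D.obj s ⟶ pt := fun s =>
    { base := eqToHom (D.w_obj s) ≫ s.obj.hom
      wb := by rw [Functor.map_comp, Category.assoc]; exact hb' s
      top := ι s
      eqv := (ha s).symm
      cart := by
        refine isPullback_of_left ?_
        have := isPullback_extend (hg.cart s) ((yon S).map (eqToHom (D.w_obj s).symm))
          (𝟙 ((yon S).obj U)) (g' := (yon S).map (eqToHom (D.w_obj s) ≫ s.obj.hom)) (by
            rw [Category.comp_id, ← Functor.map_comp, eqToHom_trans_assoc, eqToHom_refl, Category.id_comp])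
        rw [Category.comp_id] at this
        change IsPullback (ι₀ s) (D.obj s).π.left r _
        have e2 : (datum D).q s ≫ (yon S).map (eqToHom (D.w_obj s).symm) = (D.obj s).π.left := by
          change datQ D s ≫ _ = _
          rw [datQ, Category.assoc, ← Functor.map_comp, eqToHom_trans, eqToHom_refl, CategoryTheory.Functor.map_id]
          exact Category.comp_id _
        rw [e2] at this
        exact this
      wφ := hφ s }
  exact ⟨{ pt := pt
           base := rfl
           ι := cι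
           map_ι := fun s => (Category.comp_id _).symm.trans (Category.assoc _ _ _)
           nat := fun {s t} m => AlgSt.SpQuotObj.hom_ext (by
             change (D.map m).base ≫ eqToHom (D.w_obj t) ≫ t.obj.hom = eqToHom (D.w_obj s) ≫ s.obj.hom
             rw [datum_map_base]
             simp [Over.w m.hom]) (hG.nat m) }⟩

/-- Torsors given as sheaves, with an equivariant map, form a stack in groupoids. -/
theorem isStack_spQuot (G : Over B) [GrpObj G] {X : Over B} (aX : GAction G X) :
    Stk.IsStack (J S) (AlgSt.SpQuotSt Scheme.fppfPrecoverage G aX) :=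
  haveI := isFibGrpd_spQuot (G := G) (aX := aX)
  isStack_iff.2 fun _ _ hR => ⟨fun _ c c' => sConeUniq hR c c', fun _ => sGlue hR⟩

end Groth.Agent.SpTorsLib
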