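import Groth.Prelude.Def_AlgSt6
import Groth.Agent.S10138
import Groth.Agent.ASp.LocP
import Groth.Agent.ASp.Univ

/-!
Torsors given as fppf sheaves under a group algebraic space are algebraic spaces.
-/

set_option autoImplicit false
set_option backward.isDefEq.respectTransparency false
set_option backward.isDefEq.respectTransparency.types false

universe u

open CategoryTheory CategoryTheory.Limits AlgebraicGeometry MonoidalCategory CartesianMonoidalCategory

namespace Groth.Agent.SpTorsLib

open _root_.AlgSp Groth.Agent.ASp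

variable {S : Scheme.{u}} {B : Sp S}

/-- The forgetful functor from the slice takes cartesian squares to cartesian squares. -/
theorem isPullback_left {P X Y Z : Over B} {fst : P ⟶ X} {snd : P ⟶ Y} {f : X ⟶ Z} {g : Y ⟶ Z}
    (h : IsPullback fst snd f g) : IsPullback fst.left snd.left f.left g.left :=
  h.map (Over.forget B)

variable {G : Over B} [GrpObj G] {K : Precoverage Scheme.{u}} {X : Over B} {aX : GAction G X}
  (A : AlgSt.SpQuotObj K G aX)

/-- A section over `X'` trivialises the torsor over `X'`. -/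
theorem isPullback_triv {X' : Over B} (s : X' ⟶ A.P) :
    IsPullback ((G ◁ s) ≫ A.act.act) (snd G X') A.π (s ≫ A.π) :=
  (AlgSt.isPullback_whiskerLeft' s).paste_horiz A.cart

theorem isFppfCover_yon {T : Over S} {ι : Type u} (W : ι → Scheme.{u}) (f : ∀ i, W i ⟶ T.left)
    (hc : Presieve.ofArrows W f ∈ Scheme.fppfPrecoverage T.left) :
    IsFppfCover (fun i => (yon S).obj (Over.mk (f i ≫ T.hom)))
      (fun i => (yon S).map (Over.homMk (f i) : Over.mk (f i ≫ T.hom) ⟶ T)) := by
  obtain ⟨h1, h2⟩ := (Scheme.ofArrows_mem_precoverage_iff _).1 hc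
  refine ⟨fun i => ⟨locP_of_repWith (repWith_yon_map (h2 i).1), locP_of_repWith (repWith_yon_map (h2 i).2)⟩,
    fun y => ?_⟩
  obtain ⟨t, rfl⟩ := (Points.schemeHomeo T).surjective y
  obtain ⟨i, w, hw⟩ := h1 t
  exact ⟨i, Points.schemeHomeo _ w, by rw [Points.map_yon_map_apply]; exact congrArg _ hw⟩

/-- The total sheaf of an fppf torsor under a group algebraic space is an algebraic space. -/
theorem isAlgSpace_P {G : Over B} [GrpObj G] {X : Over B} {aX : GAction G X} (hB : IsAlgSpace B)
    (hG : IsAlgSpace G.left) (A : AlgSt.SpQuotObj Scheme.fppfPrecoverage G aX) : IsAlgSpace A.P.left := by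
  obtain ⟨R, hR, hsec⟩ := A.loc
  obtain ⟨ι', W, f, hle, hcov, -⟩ : ∃ (ι : Type u) (W : ι → Scheme.{u}) (f : ∀ i, W i ⟶ A.base.left),
      Presieve.ofArrows W f ≤ R ∧ Presieve.ofArrows W f ∈ Scheme.fppfPrecoverage A.base.left ∧ True := by
    obtain ⟨J₀, W₀, f₀, rfl⟩ := Presieve.exists_eq_ofArrows R
    obtain ⟨h1, h2⟩ := (Scheme.ofArrows_mem_precoverage_iff _).1 hR
    choose i w hw using h1
    refine ⟨↥A.base.left, fun t => W₀ (i t), fun t => f₀ (i t), ?_, ?_, trivial⟩
    · rintro _ _ ⟨t⟩; exact ⟨i t⟩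
    · exact (Scheme.ofArrows_mem_precoverage_iff _).2 ⟨fun t => ⟨t, w t, hw t⟩, fun t => h2 (i t)⟩
  choose s hs using fun i => hsec (f i) (hle _ _ (Presieve.ofArrows.mk i))
  refine Groth.Agent.S10138.result S ⟨_, IsAlgSpace.yon_obj A.base⟩
    (fun i => ⟨_, IsAlgSpace.yon_obj (Over.mk (f i ≫ A.base.hom))⟩)
    (fun i => (yon S).map (Over.homMk (f i))) (isFppfCover_yon W f hcov) A.P.left A.π.left fun i P fst snd' hP => ?_
  let X' : Over B := Over.mk (s i ≫ A.P.hom)
  let σ : X' ⟶ A.P := Over.homMk (s i) rfl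
  have h := isPullback_left (isPullback_triv A σ)
  have e : (σ ≫ A.π).left = (yon S).map (Over.homMk (f i)) := hs i
  rw [e] at h
  exact (isAlgSpace_pullback hB.diag hG (IsAlgSpace.yon_obj _) G.hom X'.hom).of_iso (h.isoIsPullback _ _ hP)

end Groth.Agent.SpTorsLib
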