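import Groth.Agent.SpTorsLib.Hom
import Groth.Agent.ASt.Stack
import Groth.Agent.ASp.Morph

/-!
The fibres of the quotient map of a sheaf with an action.
-/

set_option autoImplicit false
set_option backward.isDefEq.respectTransparency false
set_option backward.isDefEq.respectTransparency.types false
set_option linter.unusedSectionVars false

universe u

open CategoryTheory CategoryTheory.Limits AlgebraicGeometry MonoidalCategory CartesianMonoidalCategory MonObj Opposite

namespace Groth.Agent.SpTorsLib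

open _root_.AlgSp Groth.Agent.ASp

variable {S : Scheme.{u}} {B : Sp S} {G : Over B} [GrpObj G] {X : Over B} {aX : GAction G X}

theorem unitSec_act {P : Over B} (a : GAction G P) : unitSec P ≫ a.act = 𝟙 P := by
  have h3 : unitSec (G := G) P = (λ_ P).inv ≫ (η[G] ▷ P) := by
    apply CartesianMonoidalCategory.hom_ext
    · simp [unitSec]
    · simp [unitSec]
  rw [h3, Category.assoc, a.one_act, Iso.inv_hom_id]

theorem unitSec_φ (a : (AlgSt.ofSp X.left).obj) :
    unitSec (Over.mk (AlgSt.secYon a ≫ X.hom)) ≫ (G ◁ AlgSt.secOver a) ≫ aX.act = AlgSt.secOver a := by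
  rw [← Category.assoc, unitSec_natural, Category.assoc, unitSec_act, Category.comp_id]

/-- Morphisms out of the trivial torsor of a section. -/
theorem existsUnique_homX (a : (AlgSt.ofSp X.left).obj) (A : AlgSt.SpQuotObj Scheme.fppfPrecoverage G aX)
    (f : a.base ⟶ A.base) (wb : (yon S).map f ≫ A.b = AlgSt.secYon a ≫ X.hom)
    (l : Over.mk (AlgSt.secYon a ≫ X.hom) ⟶ A.P) (hl : l ≫ A.π = AlgSt.bHom f wb)
    (hφ : l ≫ A.φ = AlgSt.secOver a) :
    ∃! m : (AlgSt.spQuotMap Scheme.fppfPrecoverage G aX).obj a ⟶ A,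
      m.base = f ∧ unitSec (Over.mk (AlgSt.secYon a ≫ X.hom)) ≫ m.top = l := by
  let m : (AlgSt.spQuotMap Scheme.fppfPrecoverage G aX).obj a ⟶ A :=
    { base := f
      wb := wb
      top := (G ◁ l) ≫ A.act.act
      eqv := homTriv_eqv A.act l
      cart := by
        have h := isPullback_triv A l
        rw [hl] at h
        exact h
      wφ := by
        change ((G ◁ l) ≫ A.act.act) ≫ A.φ = (G ◁ AlgSt.secOver a) ≫ aX.act
        rw [Category.assoc, A.eqv, ← MonoidalCategory.whiskerLeft_comp_assoc, hφ] }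
  refine ⟨m, ⟨rfl, ?_⟩, fun m' hm' => AlgSt.SpQuotObj.hom_ext hm'.1 ?_⟩
  · change unitSec _ ≫ (G ◁ l) ≫ A.act.act = l
    rw [← Category.assoc, unitSec_natural, Category.assoc, unitSec_act, Category.comp_id]
  · change m'.top = (G ◁ l) ≫ A.act.act
    rw [← hm'.2, MonoidalCategory.whiskerLeft_comp, Category.assoc, ← m'.eqv]
    have h := unitSec_spLeftMul (G := G) (Over.mk (AlgSt.secYon a ≫ X.hom))
    change m'.top = (G ◁ unitSec _) ≫ (AlgSt.spLeftMul G _).act ≫ m'.top
    rw [← Category.assoc, h]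
    exact (Category.id_comp _).symm

theorem homX_ext {a : (AlgSt.ofSp X.left).obj} {A : AlgSt.SpQuotObj Scheme.fppfPrecoverage G aX}
    {m m' : (AlgSt.spQuotMap Scheme.fppfPrecoverage G aX).obj a ⟶ A} (h₁ : m.base = m'.base)
    (h₂ : (unitSec (Over.mk (AlgSt.secYon a ≫ X.hom)) ≫ m.top).left =
      (unitSec (Over.mk (AlgSt.secYon a ≫ X.hom)) ≫ m'.top).left) : m = m' := by
  refine (existsUnique_homX a A m'.base m'.wb (unitSec (Over.mk (AlgSt.secYon a ≫ X.hom)) ≫ m'.top) ?_ ?_).unique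
    ⟨h₁, Over.OverMorphism.ext h₂⟩ ⟨rfl, rfl⟩
  · rw [Category.assoc, m'.cart.w]
    exact (Category.assoc _ _ _).symm.trans ((congrArg (· ≫ _) (unitSec_snd _)).trans (Category.id_comp _))
  · rw [Category.assoc, m'.wφ]
    exact unitSec_φ a

section Fibre

open Groth.Agent.ASt

variable [FibCat.IsFibGrpd (AlgSt.SpQuotSt Scheme.fppfPrecoverage G aX).p] {U : Over S}
  (y : FibCat.overCat U ⥤ᵇ AlgSt.SpQuotSt Scheme.fppfPrecoverage G aX)

/-- The torsor over the test scheme. -/
noncomputable abbrev top₀ : AlgSt.SpQuotObj Scheme.fppfPrecoverage G aX := y.obj (ov (𝟙 U))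

/-- Its map to the test scheme. -/
noncomputable abbrev top₀R : (top₀ y).P.left ⟶ (yon S).obj U :=
  (top₀ y).π.left ≫ (yon S).map (eqToHom (y.w_obj (ov (𝟙 U))))

/-- The morphism to the test scheme under a section of the torsor. -/
noncomputable abbrev kOf (s : (AlgSt.ofSp (top₀ y).P.left).obj) : s.base ⟶ U :=
  (yon S).preimage (AlgSt.secYon (X := (top₀ y).P) s ≫ top₀R y)

theorem yon_kOf (s : (AlgSt.ofSp (top₀ y).P.left).obj) :
    (yon S).map (kOf y s) = AlgSt.secYon (X := (top₀ y).P) s ≫ top₀R y :=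
  (yon S).map_preimage _

theorem kOf_natural {s s' : (AlgSt.ofSp (top₀ y).P.left).obj} (g : s ⟶ s') : g.hom ≫ kOf y s' = kOf y s :=
  (yon S).map_injective (by
    rw [Functor.map_comp, yon_kOf, yon_kOf, ← Category.assoc, AlgSt.secYon_comp (X := (top₀ y).P)])

/-- Sections of the torsor as objects over the test scheme. -/
noncomputable def kFun : AlgSt.ofSp (top₀ y).P.left ⥤ᵇ FibCat.overCat U where
  toFunctor :=
    { obj := fun s => ov (kOf y s)
      map := fun {s s'} g => Over.homMk g.hom (kOf_natural y g)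
      map_id := fun s => Over.OverMorphism.ext rfl
      map_comp := fun g g' => Over.OverMorphism.ext rfl }
  w := rfl

/-- Sections of the torsor give sections of the space acted on. -/
noncomputable abbrev xFun : AlgSt.ofSp (top₀ y).P.left ⥤ᵇ AlgSt.ofSp X.left :=
  Stk.ofPshMap (top₀ y).φ.left.hom

theorem secYon_xFun (s : (AlgSt.ofSp (top₀ y).P.left).obj) :
    AlgSt.secYon ((xFun y).obj s) = AlgSt.secYon (X := (top₀ y).P) s ≫ (top₀ y).φ.left := by
  apply (J S).uliftYonedaEquiv.{u+1}.injective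
  rw [GrothendieckTopology.uliftYonedaEquiv_comp, Equiv.apply_symm_apply]
  exact (congrArg ((top₀ y).φ.left.hom.app (op s.base))
    (Equiv.apply_symm_apply (J S).uliftYonedaEquiv.{u+1} s.sec)).symm

theorem existsUnique_mX (s : (AlgSt.ofSp (top₀ y).P.left).obj) :
    ∃! m : (AlgSt.spQuotMap Scheme.fppfPrecoverage G aX).obj ((xFun y).obj s) ⟶ top₀ y,
      m.base = kOf y s ≫ eqToHom (y.w_obj (ov (𝟙 U))).symm ∧
      (unitSec (Over.mk (AlgSt.secYon ((xFun y).obj s) ≫ X.hom)) ≫ m.top).left =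
        AlgSt.secYon (X := (top₀ y).P) s := by
  let A := top₀ y
  have hπ : AlgSt.secYon (X := A.P) s ≫ A.π.left =
      (yon S).map (kOf y s ≫ eqToHom (y.w_obj (ov (𝟙 U))).symm) := by
    rw [Functor.map_comp, yon_kOf]
    simp [A, top₀R, eqToHom_map]
  have hP : AlgSt.secYon (X := A.P) s ≫ A.P.hom = AlgSt.secYon ((xFun y).obj s) ≫ X.hom := by
    rw [secYon_xFun, Category.assoc, Over.w A.φ]
  have wb : (yon S).map (kOf y s ≫ eqToHom (y.w_obj (ov (𝟙 U))).symm) ≫ A.b =
      AlgSt.secYon ((xFun y).obj s) ≫ X.hom := by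
    rw [← hP, ← hπ, Category.assoc]
    exact congrArg (AlgSt.secYon (X := A.P) s ≫ ·) (Over.w A.π)
  obtain ⟨m, ⟨hm, hmt⟩, hu⟩ := existsUnique_homX ((xFun y).obj s) A
    (kOf y s ≫ eqToHom (y.w_obj (ov (𝟙 U))).symm) wb (Over.homMk (AlgSt.secYon (X := A.P) s) hP)
    (Over.OverMorphism.ext hπ) (Over.OverMorphism.ext (secYon_xFun y s).symm)
  exact ⟨m, ⟨hm, congrArg (fun k => k.left) hmt⟩, fun m' hm' => hu m' ⟨hm'.1, Over.OverMorphism.ext hm'.2⟩⟩

/-- The morphism to the torsor of a section. -/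
noncomputable def mX (s : (AlgSt.ofSp (top₀ y).P.left).obj) :
    (AlgSt.spQuotMap Scheme.fppfPrecoverage G aX).obj ((xFun y).obj s) ⟶ top₀ y :=
  (existsUnique_mX y s).exists.choose

theorem mX_base (s : (AlgSt.ofSp (top₀ y).P.left).obj) :
    (mX y s).base = kOf y s ≫ eqToHom (y.w_obj (ov (𝟙 U))).symm :=
  (existsUnique_mX y s).exists.choose_spec.1

theorem mX_top (s : (AlgSt.ofSp (top₀ y).P.left).obj) :
    (unitSec (Over.mk (AlgSt.secYon ((xFun y).obj s) ≫ X.hom)) ≫ (mX y s).top).left =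
      AlgSt.secYon (X := (top₀ y).P) s :=
  (existsUnique_mX y s).exists.choose_spec.2

theorem comp_top_eval {a a' : (AlgSt.ofSp X.left).obj} (g : a ⟶ a')
    (m : (AlgSt.spQuotMap Scheme.fppfPrecoverage G aX).obj a' ⟶ top₀ y) :
    (unitSec (Over.mk (AlgSt.secYon a ≫ X.hom)) ≫
      ((AlgSt.spQuotMap Scheme.fppfPrecoverage G aX).map g ≫ m).top).left =
      (yon S).map g.hom ≫ (unitSec (Over.mk (AlgSt.secYon a' ≫ X.hom)) ≫ m.top).left := by
  have h : unitSec (G := G) (Over.mk (AlgSt.secYon a ≫ X.hom)) ≫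
      (G ◁ AlgSt.bHom g.hom (show (yon S).map g.hom ≫ AlgSt.secYon a' ≫ X.hom = AlgSt.secYon a ≫ X.hom by
        rw [← Category.assoc, AlgSt.secYon_comp])) ≫ m.top =
      AlgSt.bHom g.hom (show (yon S).map g.hom ≫ AlgSt.secYon a' ≫ X.hom = AlgSt.secYon a ≫ X.hom by
        rw [← Category.assoc, AlgSt.secYon_comp]) ≫ unitSec _ ≫ m.top := by
    rw [← Category.assoc, unitSec_natural, Category.assoc]
  exact congrArg (fun k => k.left) h

/-- The vertical morphism over a section. -/
noncomputable def psiX (s : (AlgSt.ofSp (top₀ y).P.left).obj) :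
    (AlgSt.spQuotMap Scheme.fppfPrecoverage G aX).obj ((xFun y).obj s) ⟶ y.obj (ov (kOf y s)) :=
  facMap (y.map (toTop (ov (kOf y s)))) (mX y s) (eqToHom (y.w_obj (ov (kOf y s))).symm) (by
    rw [map_toTop]
    change _ = (mX y s).base
    rw [mX_base]
    simp)

theorem map_psiX (s : (AlgSt.ofSp (top₀ y).P.left).obj) :
    (AlgSt.SpQuotSt Scheme.fppfPrecoverage G aX).p.map (psiX y s) = eqToHom (y.w_obj (ov (kOf y s))).symm :=
  map_facMap _ _ _ _

theorem psiX_toTop (s : (AlgSt.ofSp (top₀ y).P.left).obj) :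
    psiX y s ≫ y.map (toTop (ov (kOf y s))) = mX y s := facMap_comp _ _ _ _

theorem psiX_natural {s s' : (AlgSt.ofSp (top₀ y).P.left).obj} (g : s ⟶ s') :
    (AlgSt.spQuotMap Scheme.fppfPrecoverage G aX).map ((xFun y).map g) ≫ psiX y s' =
      psiX y s ≫ y.map ((kFun y).map g) := by
  have hg : ((xFun y).map g).hom = g.hom := rfl
  refine hom_ext (y.map (toTop (ov (kOf y s')))) ?_ ?_
  · rw [Functor.map_comp, Functor.map_comp, map_psiX, map_psiX, ASt.map_w y ((kFun y).map g)]
    change g.hom ≫ eqToHom _ = eqToHom _ ≫ eqToHom _ ≫ g.hom ≫ eqToHom _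
    rw [eqToHom_trans_assoc]
    exact (Category.id_comp _).symm
  · rw [Category.assoc, Category.assoc, psiX_toTop, ← y.toFunctor.map_comp]
    have hk : (kFun y).map g ≫ toTop (ov (kOf y s')) = toTop (ov (kOf y s)) :=
      Over.OverMorphism.ext (kOf_natural y g)
    rw [hk, psiX_toTop]
    refine homX_ext ?_ ?_
    · change g.hom ≫ (mX y s').base = _
      rw [mX_base, mX_base, ← kOf_natural y g, Category.assoc]
    · rw [comp_top_eval, mX_top, mX_top, hg, AlgSt.secYon_comp (X := (top₀ y).P)]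

theorem exists_rep_quotMap :
    ∃ E : AlgSt.ofSp (top₀ y).P.left ⥤ᵇ FibCat.fp y (AlgSt.spQuotMap Scheme.fppfPrecoverage G aX),
      FibCat.IsEquivOver E ∧
        AlgSt.spMapOfOver (BasedFunctor.comp E (FibCat.fpFst _ _)) = top₀R y := by
  let q := AlgSt.spQuotMap Scheme.fppfPrecoverage G aX
  let c := BasedFunctor.comp (xFun y) q
  have hi : ∀ s, IsIso (psiX y s) := fun s => isIso_of_vert (psiX y s) (map_psiX y s)
  let θ : c ≅ BasedFunctor.comp (kFun y) y := BasedNatIso.mkNatIso (F := c) (G := BasedFunctor.comp (kFun y) y)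
    (NatIso.ofComponents (fun s => @asIso _ _ _ _ (psiX y s) (hi s)) fun {_ _} g => psiX_natural y g)
    fun s => isHomLift_id_of_map (psiX y s) (c.w_obj s) (map_psiX y s)
  let E := FibCat.fpLift (F := y) (G := q) (kFun y) (xFun y) θ.symm
  have h3 : ∀ s, psiX y s ≫ (E.obj s).obj.iso.hom = 𝟙 _ := fun s => app_eq_of_eq θ.hom_inv_id s
  have h4 : ∀ s, (E.obj s).obj.iso.hom ≫ psiX y s = 𝟙 _ := fun s => app_eq_of_eq θ.inv_hom_id s
  refine ⟨E, ?_, ?_⟩
  · haveI : E.toFunctor.Faithful := ⟨fun {s s' g g'} h =>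
      Stk.EltObj.hom_ext (congrArg (fun n => n.hom.fst.left) h)⟩
    haveI : E.toFunctor.Full := ⟨fun {s s'} n => by
      let g : s.base ⟶ s'.base := n.hom.fst.left
      have hsnd : n.hom.snd.hom = g := by
        refine (fp_map_snd n).trans ?_
        exact (congrArg (_ ≫ ·) (Category.comp_id g)).trans (Category.id_comp _)
      have w := n.hom.w
      have h1 : q.map n.hom.snd ≫ psiX y s' = psiX y s ≫ y.map n.hom.fst := by
        calc q.map n.hom.snd ≫ psiX y s'
            = (psiX y s ≫ (E.obj s).obj.iso.hom) ≫ q.map n.hom.snd ≫ psiX y s' := by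
              rw [h3 s]; exact (Category.id_comp _).symm
          _ = psiX y s ≫ ((E.obj s).obj.iso.hom ≫ q.map n.hom.snd) ≫ psiX y s' := by
              simp only [Category.assoc]
          _ = psiX y s ≫ (y.map n.hom.fst ≫ (E.obj s').obj.iso.hom) ≫ psiX y s' := by rw [← w]
          _ = psiX y s ≫ y.map n.hom.fst := by rw [Category.assoc, h4 s', Category.comp_id]
      have hm : q.map n.hom.snd ≫ mX y s' = mX y s := by
        rw [← psiX_toTop, ← Category.assoc, h1, Category.assoc, ← psiX_toTop]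
        refine congrArg (psiX y s ≫ ·) ?_
        refine (y.toFunctor.map_comp _ _).symm.trans ?_
        exact congrArg (fun m => y.map m) (Over.OverMorphism.ext (Over.w n.hom.fst))
      have hsec : (yon S).map g ≫ AlgSt.secYon (X := (top₀ y).P) s' = AlgSt.secYon (X := (top₀ y).P) s := by
        have e := comp_top_eval y n.hom.snd (mX y s')
        rw [hsnd] at e
        exact ((mX_top y s).symm.trans ((congrArg
          (fun m => (unitSec (Over.mk (AlgSt.secYon ((xFun y).obj s) ≫ X.hom)) ≫ m.top).left) hm.symm).trans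
            (e.trans (congrArg ((yon S).map g ≫ ·) (mX_top y s'))))).symm
      refine ⟨⟨g, ?_⟩, fp_hom_ext (Over.OverMorphism.ext rfl) (Stk.EltObj.hom_ext hsnd.symm)⟩
      apply (J S).uliftYonedaEquiv.{u+1}.symm.injective
      rw [← GrothendieckTopology.uliftYonedaEquiv_symm_naturality_left]
      exact hsec⟩
    refine isEquivOver_of_vert E fun m => ?_
    obtain ⟨⟨a₁, x, φ⟩, hprop⟩ := m
    let m₀ : (FibCat.fp y q).obj := ⟨⟨a₁, x, φ⟩, hprop⟩
    have hx : x.base = a₁.left := fp_snd_base m₀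
    let nu : q.obj x ⟶ top₀ y := φ.inv ≫ y.map (toTop a₁)
    have hφ : φ.inv.base = eqToHom ((q.w_obj x).trans (hx.trans (y.w_obj a₁).symm)) := by
      have h1 : (AlgSt.SpQuotSt Scheme.fppfPrecoverage G aX).p.map φ.hom = _ := fp_iso_map m₀
      change (AlgSt.SpQuotSt Scheme.fppfPrecoverage G aX).p.map φ.inv = _
      rw [← cancel_epi ((AlgSt.SpQuotSt Scheme.fppfPrecoverage G aX).p.map φ.hom), ← Functor.map_comp,
        φ.hom_inv_id, CategoryTheory.Functor.map_id, h1]
      simp
    have hnu : nu.base = eqToHom hx ≫ a₁.hom ≫ eqToHom (y.w_obj (ov (𝟙 U))).symm := by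
      change φ.inv.base ≫ (y.map (toTop a₁)).base = _
      rw [hφ, show (y.map (toTop a₁)).base = _ from map_toTop y a₁]
      simp
    let s : (AlgSt.ofSp (top₀ y).P.left).obj :=
      ⟨x.base, (J S).uliftYonedaEquiv.{u+1} ((unitSec (Over.mk (AlgSt.secYon x ≫ X.hom)) ≫ nu.top).left)⟩
    have hs : AlgSt.secYon (X := (top₀ y).P) s =
        (unitSec (Over.mk (AlgSt.secYon x ≫ X.hom)) ≫ nu.top).left :=
      Equiv.symm_apply_apply _ _
    have hbx : AlgSt.secYon ((xFun y).obj s) = AlgSt.secYon x := by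
      rw [secYon_xFun, hs, ← Over.comp_left, Category.assoc, nu.wφ]
      exact congrArg (fun k => k.left) (unitSec_φ (aX := aX) x)
    let bx : (xFun y).obj s ⟶ x := ⟨𝟙 _, (J S).uliftYonedaEquiv.{u+1}.symm.injective (by
      rw [← GrothendieckTopology.uliftYonedaEquiv_symm_naturality_left]
      change (yon S).map (𝟙 x.base) ≫ AlgSt.secYon x = AlgSt.secYon ((xFun y).obj s)
      rw [hbx, CategoryTheory.Functor.map_id, Category.id_comp])⟩
    have hk : kOf y s = eqToHom hx ≫ a₁.hom := (yon S).map_injective (by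
      have h2 : (unitSec (Over.mk (AlgSt.secYon x ≫ X.hom)) ≫ nu.top).left ≫ (top₀ y).π.left =
          (yon S).map nu.base := by
        have h5 : (unitSec (Over.mk (AlgSt.secYon x ≫ X.hom)) ≫ nu.top) ≫ (top₀ y).π = AlgSt.bHom nu.base nu.wb := by
          rw [Category.assoc, nu.cart.w]
          exact (Category.assoc _ _ _).symm.trans ((congrArg (· ≫ _) (unitSec_snd _)).trans (Category.id_comp _))
        exact congrArg (fun k => k.left) h5
      rw [yon_kOf, hs, top₀R, reassoc_of% h2, hnu, ← Functor.map_comp]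
      simp)
    let fs : ov (kOf y s) ≅ a₁ := Over.isoMk (eqToIso hx) (by simp [hk])
    have h1 : psiX y s ≫ y.map fs.hom = q.map bx ≫ φ.inv := by
      refine hom_ext (y.map (toTop a₁)) ?_ ?_
      · rw [Functor.map_comp, Functor.map_comp, map_psiX, ASt.map_w y fs.hom]
        change eqToHom _ ≫ eqToHom _ ≫ fs.hom.left ≫ eqToHom _ = 𝟙 _ ≫ φ.inv.base
        rw [hφ]
        simp [fs]
      · rw [Category.assoc, Category.assoc]
        refine Eq.trans ?_ (Eq.trans (psiX_toTop y s) (homX_ext (m' := q.map bx ≫ nu) ?_ ?_))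
        · refine congrArg (psiX y s ≫ ·) ?_
          refine (y.toFunctor.map_comp _ _).symm.trans ?_
          exact congrArg (fun m => y.map m) (Over.OverMorphism.ext hk.symm)
        · change _ = 𝟙 _ ≫ nu.base
          rw [mX_base, hnu, hk]
          simp
        · rw [mX_top, comp_top_eval, ← hs]
          change _ = (yon S).map (𝟙 x.base) ≫ _
          rw [CategoryTheory.Functor.map_id, Category.id_comp]
    have hw : y.map fs.hom ≫ φ.hom = (E.obj s).obj.iso.hom ≫ q.map bx := by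
      calc y.map fs.hom ≫ φ.hom = ((E.obj s).obj.iso.hom ≫ psiX y s) ≫ y.map fs.hom ≫ φ.hom := by
              rw [h4 s]; exact (Category.id_comp _).symm
        _ = (E.obj s).obj.iso.hom ≫ q.map bx ≫ φ.inv ≫ φ.hom := by
              rw [Category.assoc, ← Category.assoc (psiX y s), h1, Category.assoc]
        _ = (E.obj s).obj.iso.hom ≫ q.map bx := by rw [φ.inv_hom_id, Category.comp_id]
    refine ⟨s, hx, ?_⟩
    let n : E.obj s ⟶ m₀ := fpHomMk fs.hom bx hw
    have hn : (FibCat.fp y q).p.map n = eqToHom hx := rfl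
    haveI : FibCat.IsFibGrpd (AlgSt.ofSp X.left).p := Stk.isFibGrpd_ofPsh _
    haveI : FibCat.IsFibGrpd (FibCat.fp y q).p := isFibGrpd_fp
    haveI := isIso_of_vert n hn
    exact ⟨asIso n, hn⟩
  · refine hom_ext_of_yon fun T l => ?_
    apply (J S).uliftYonedaEquiv.{u+1}.injective
    rw [GrothendieckTopology.uliftYonedaEquiv_comp, GrothendieckTopology.uliftYonedaEquiv_comp]
    obtain ⟨x, rfl⟩ := (J S).uliftYonedaEquiv.{u+1}.symm.surjective l
    rw [Equiv.apply_symm_apply]
    refine ((AlgSt.spMapOfOver_app _ T x).trans ?_)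
    change (⟨𝟙 _ ≫ kOf y ⟨T, x⟩⟩ : ULift.{u+1} (T ⟶ U)) = _
    rw [Category.id_comp]
    have h1 := congrArg (J S).uliftYonedaEquiv.{u+1} (yon_kOf y ⟨T, x⟩)
    rw [GrothendieckTopology.uliftYonedaEquiv_comp, Equiv.apply_symm_apply] at h1
    exact Eq.trans ((congrArg ULift.up (Category.id_comp (kOf y ⟨T, x⟩)).symm).trans
      (GrothendieckTopology.uliftYonedaEquiv_apply.{u+1} (J S) ((yon S).map (kOf y ⟨T, x⟩))).symm) h1

end Fibre

end Groth.Agent.SpTorsLib
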