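import Groth.Agent.SpTorsLib.Fibres

/-!
The diagonal of the classifying stack: the sheaf of isomorphisms of two torsors over a scheme.
-/

set_option autoImplicit false
set_option backward.isDefEq.respectTransparency false
set_option backward.isDefEq.respectTransparency.types false
set_option linter.unusedSectionVars false

universe u

open CategoryTheory CategoryTheory.Limits AlgebraicGeometry MonoidalCategory CartesianMonoidalCategory Opposite

namespace Groth.Agent.SpTorsLib

open _root_.AlgSp Groth.Agent.ASp Groth.Agent.ASt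

variable {S : Scheme.{u}} {G : Over ((yon S).obj (Over.mk (𝟙 S)))} [GrpObj G] {U : Over S}

local notation "BGc" => AlgSt.SpBG Scheme.fppfPrecoverage G

instance isFibGrpd_BG_pairs : FibCat.IsFibGrpd (FibCat.fp (FibCat.toSelf (AlgSt.SpBG Scheme.fppfPrecoverage G))
    (FibCat.toSelf (AlgSt.SpBG Scheme.fppfPrecoverage G))).p := isFibGrpd_fp

variable (w : FibCat.overCat U ⥤ᵇ FibCat.fp (FibCat.toSelf (AlgSt.SpBG Scheme.fppfPrecoverage G))
  (FibCat.toSelf (AlgSt.SpBG Scheme.fppfPrecoverage G)))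

/-- The first torsor. -/
noncomputable abbrev aF : FibCat.overCat U ⥤ᵇ AlgSt.SpBG Scheme.fppfPrecoverage G :=
  BasedFunctor.comp w (FibCat.fpFst _ _)

/-- The second torsor. -/
noncomputable abbrev bF : FibCat.overCat U ⥤ᵇ AlgSt.SpBG Scheme.fppfPrecoverage G :=
  BasedFunctor.comp w (FibCat.fpSnd _ _)

/-- A member of the slice with an isomorphism of the two torsors over it. -/
structure DIso (T : Over S) where
  k : T ⟶ U
  v : (aF w).obj (ov k) ⟶ (bF w).obj (ov k)
  hv : (AlgSt.SpBG Scheme.fppfPrecoverage G).p.map v =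
    eqToHom (((aF w).w_obj (ov k)).trans ((bF w).w_obj (ov k)).symm)

variable {w}

/-- `p'` is the restriction of `p` along `g`. -/
def DRel {T' T : Over S} (g : T' ⟶ T) (p : DIso w T) (p' : DIso w T') : Prop :=
  ∃ e : g ≫ p.k = p'.k, p'.v ≫ (bF w).map (ovHom g e) = (aF w).map (ovHom g e) ≫ p.v

theorem DRel.unique {T' T : Over S} {g : T' ⟶ T} {p : DIso w T} {p' p'' : DIso w T'} (h' : DRel g p p')
    (h'' : DRel g p p'') : p' = p'' := by
  obtain ⟨k, v, hv⟩ := p'
  obtain ⟨k', v', hv'⟩ := p''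
  obtain ⟨e, h'⟩ := h'
  obtain ⟨e', h''⟩ := h''
  obtain rfl : k = k' := e.symm.trans e'
  obtain rfl : v = v' := hom_ext ((bF w).map (ovHom g e)) (hv.trans hv'.symm) (h'.trans h''.symm)
  rfl

theorem DRel.refl {T : Over S} (p : DIso w T) : DRel (𝟙 T) p p := by
  refine ⟨Category.id_comp _, ?_⟩
  have h : ovHom (𝟙 T) (Category.id_comp p.k) = 𝟙 (ov p.k) := Over.OverMorphism.ext rfl
  rw [h, (bF w).toFunctor.map_id, (aF w).toFunctor.map_id]
  exact (Category.comp_id _).trans (Category.id_comp _).symm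

theorem DRel.trans {T'' T' T : Over S} {g : T' ⟶ T} {j : T'' ⟶ T'} {p : DIso w T} {p' : DIso w T'}
    {p'' : DIso w T''} (h : DRel g p p') (h' : DRel j p' p'') : DRel (j ≫ g) p p'' := by
  obtain ⟨e, h⟩ := h
  obtain ⟨e', h'⟩ := h'
  refine ⟨by rw [Category.assoc, e, e'], ?_⟩
  have hc : ovHom (k := p.k) (k' := p''.k) (j ≫ g) (by rw [Category.assoc, e, e']) = ovHom j e' ≫ ovHom g e :=
    Over.OverMorphism.ext rfl
  rw [hc, (bF w).toFunctor.map_comp, (aF w).toFunctor.map_comp, ← Category.assoc, h', Category.assoc, h,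
    Category.assoc]

theorem exists_dRel {T' T : Over S} (g : T' ⟶ T) (p : DIso w T) : ∃ p', DRel g p p' := by
  let m := (aF w).map (ovHom g (rfl : g ≫ p.k = _)) ≫ p.v
  let e₀ := ((aF w).w_obj (ov (g ≫ p.k))).trans ((bF w).w_obj (ov (g ≫ p.k))).symm
  have he : eqToHom e₀ ≫ (AlgSt.SpBG Scheme.fppfPrecoverage G).p.map ((bF w).map (ovHom g rfl)) =
      (AlgSt.SpBG Scheme.fppfPrecoverage G).p.map m := by
    rw [Functor.map_comp, ASt.map_w (bF w), ASt.map_w (aF w), p.hv]
    simp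
  exact ⟨⟨g ≫ p.k, facMap _ m (eqToHom e₀) he, map_facMap _ _ _ he⟩, rfl, facMap_comp _ _ _ he⟩

/-- Restriction. -/
noncomputable def DIso.res {T' T : Over S} (g : T' ⟶ T) (p : DIso w T) : DIso w T' := (exists_dRel g p).choose

theorem DIso.rel_res {T' T : Over S} (g : T' ⟶ T) (p : DIso w T) : DRel g p (p.res g) :=
  (exists_dRel g p).choose_spec

theorem DIso.res_k {T' T : Over S} (g : T' ⟶ T) (p : DIso w T) : (p.res g).k = g ≫ p.k :=
  (p.rel_res g).choose.symm

variable (w)

/-- The presheaf of isomorphisms of the two torsors. -/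
noncomputable def diagPsh : (Over S)ᵒᵖ ⥤ Type (u + 1) where
  obj T := DIso w T.unop
  map g := ↾fun p => p.res g.unop
  map_id T := by ext p; exact DRel.unique (p.rel_res _) (DRel.refl p)
  map_comp g h := by ext p; exact DRel.unique (p.rel_res _) ((p.rel_res _).trans ((p.res _).rel_res _))

theorem dRel_of_hom {s s' : (Stk.ofPsh (diagPsh w)).obj} (g : s ⟶ s') : DRel g.hom s'.sec s.sec := by
  have h : DRel g.hom s'.sec (s'.sec.res g.hom) := DIso.rel_res _ _
  have e : s'.sec.res g.hom = s.sec := g.map_sec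
  rwa [e] at h

/-- Sections as objects over the test scheme. -/
noncomputable def diagBase : Stk.ofPsh (diagPsh w) ⥤ᵇ FibCat.overCat U where
  toFunctor :=
    { obj := fun s => ov s.sec.k
      map := fun {s s'} g => Over.homMk g.hom (dRel_of_hom w g).choose
      map_id := fun s => Over.OverMorphism.ext rfl
      map_comp := fun g g' => Over.OverMorphism.ext rfl }
  w := rfl

theorem exists_diag_equiv :
    ∃ E : Stk.ofPsh (diagPsh w) ⥤ᵇ FibCat.fp w (FibCat.diag (FibCat.toSelf BGc)),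
      FibCat.IsEquivOver E ∧ ∀ s, (E.obj s).obj.fst = ov s.sec.k := by
  let Δ := FibCat.diag (FibCat.toSelf BGc)
  let c := BasedFunctor.comp (diagBase w) (aF w)
  let d := BasedFunctor.comp (diagBase w) (bF w)
  have hi : ∀ s : (Stk.ofPsh (diagPsh w)).obj, IsIso s.sec.v := fun s => isIso_of_vert s.sec.v s.sec.hv
  let θ : c ≅ d := BasedNatIso.mkNatIso (F := c) (G := d)
    (NatIso.ofComponents (fun s => @asIso _ _ _ _ s.sec.v (hi s))
      fun {s s'} g => (dRel_of_hom w g).choose_spec.symm)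
    fun s => isHomLift_id_of_map s.sec.v (c.w_obj s) s.sec.hv
  let e : BasedFunctor.comp (diagBase w) w ≅ BasedFunctor.comp d Δ :=
    fpIsoMk (A := BasedFunctor.comp (diagBase w) w) (B := BasedFunctor.comp d Δ) θ (Iso.refl _) fun s => by
      let L := (BasedFunctor.comp (diagBase w) w).obj s
      let R := (BasedFunctor.comp d Δ).obj s
      change (AlgSt.SpBG Scheme.fppfPrecoverage G).p.map s.sec.v ≫ R.obj.iso.hom =
        L.obj.iso.hom ≫ (AlgSt.SpBG Scheme.fppfPrecoverage G).p.map (𝟙 _)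
      have h1 := fp_iso_map L
      have h2 := fp_iso_map R
      change L.obj.iso.hom = _ at h1
      change R.obj.iso.hom = _ at h2
      rw [h1, h2, s.sec.hv, CategoryTheory.Functor.map_id]
      exact (eqToHom_trans _ _).trans (Category.comp_id _).symm
  let E := FibCat.fpLift (F := w) (G := Δ) (diagBase w) d e
  have hE₁ : ∀ s, (E.obj s).obj.iso.hom.hom.fst = s.sec.v := fun s => rfl
  have hE₂ : ∀ s, (E.obj s).obj.iso.hom.hom.snd = 𝟙 _ := fun s => rfl
  refine ⟨E, ?_, fun s => rfl⟩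
  haveI : E.toFunctor.Faithful := ⟨fun {s s' g g'} h =>
    Stk.EltObj.hom_ext (congrArg (fun n => n.hom.fst.left) h)⟩
  haveI : E.toFunctor.Full := ⟨fun {s s'} n => by
    let g : s.base ⟶ s'.base := n.hom.fst.left
    have hk : g ≫ s'.sec.k = s.sec.k := Over.w n.hom.fst
    have w₁ : (aF w).map n.hom.fst ≫ s'.sec.v = s.sec.v ≫ n.hom.snd := by
      rw [← hE₁ s, ← hE₁ s']
      exact congrArg (fun k => k.hom.fst) n.hom.w
    have w₂ : (bF w).map n.hom.fst = n.hom.snd := by
      have h := congrArg (fun k => k.hom.snd) n.hom.w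
      change (bF w).map n.hom.fst ≫ (E.obj s').obj.iso.hom.hom.snd =
        (E.obj s).obj.iso.hom.hom.snd ≫ n.hom.snd at h
      rw [hE₂, hE₂] at h
      exact (Category.comp_id _).symm.trans (h.trans (Category.id_comp _))
    have hf : n.hom.fst = ovHom g hk := Over.OverMorphism.ext rfl
    have hr : DRel g s'.sec s.sec := ⟨hk, by rw [← hf, w₁, w₂]⟩
    let g' : s ⟶ s' := ⟨g, DRel.unique (DIso.rel_res g s'.sec) hr⟩
    refine ⟨g', fp_hom_ext (Over.OverMorphism.ext rfl) ?_⟩
    rw [← w₂]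
    exact congrArg (fun k => (bF w).map k) (Over.OverMorphism.ext rfl)⟩
  haveI hdiag : FibCat.IsFibGrpd (FibCat.fp w Δ).p := isFibGrpd_fp
  refine isEquivOver_of_vert E fun m => ?_
  obtain ⟨⟨a₁, x, φ⟩, hprop⟩ := m
  let m₀ : (FibCat.fp w Δ).obj := ⟨⟨a₁, x, φ⟩, hprop⟩
  have hf1 : (AlgSt.SpBG Scheme.fppfPrecoverage G).p.map φ.hom.hom.fst = eqToHom _ := fp_iso_map m₀
  have hf2 : (AlgSt.SpBG Scheme.fppfPrecoverage G).p.map φ.hom.hom.snd = eqToHom _ ≫ _ := fp_map_snd φ.hom
  rw [show (AlgSt.SpBG Scheme.fppfPrecoverage G).p.map φ.hom.hom.fst = eqToHom _ from hf1, eqToHom_trans,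
    eqToHom_trans] at hf2
  haveI hi₁ : IsIso φ.hom.hom.fst := isIso_of_vert _ hf1
  haveI hi₂ : IsIso φ.hom.hom.snd := isIso_of_vert _ hf2
  let v : (aF w).obj a₁ ⟶ (bF w).obj a₁ := φ.hom.hom.fst ≫ inv φ.hom.hom.snd
  have hv : (AlgSt.SpBG Scheme.fppfPrecoverage G).p.map v =
      eqToHom (((aF w).w_obj a₁).trans ((bF w).w_obj a₁).symm) := by
    rw [Functor.map_comp, Functor.map_inv, IsIso.comp_inv_eq, hf1, hf2]
    exact (eqToHom_trans _ _).symm
  let s : (Stk.ofPsh (diagPsh w)).obj := ⟨a₁.left, ⟨a₁.hom, v, hv⟩⟩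
  refine ⟨s, rfl, ?_⟩
  let n : E.obj s ⟶ m₀ := fpHomMk (m := E.obj s) (n := m₀) (𝟙 _) φ.hom.hom.snd (fp_hom_ext (by
      change (aF w).map (𝟙 _) ≫ φ.hom.hom.fst = v ≫ φ.hom.hom.snd
      rw [(aF w).toFunctor.map_id, Category.assoc, IsIso.inv_hom_id, Category.comp_id]
      exact Category.id_comp _) (by
      change (bF w).map (𝟙 _) ≫ φ.hom.hom.snd = 𝟙 _ ≫ φ.hom.hom.snd
      rw [(bF w).toFunctor.map_id]
      rfl))
  have hn : (FibCat.fp w Δ).p.map n = eqToHom (rfl : a₁.left = a₁.left) := rfl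
  haveI := isIso_of_vert n hn
  exact ⟨asIso n, hn⟩

theorem isSheaf_diagPsh : Presheaf.IsSheaf (J S) (diagPsh w) := by
  obtain ⟨E, hE, -⟩ := exists_diag_equiv w
  haveI : FibCat.IsFibGrpd (FibCat.fp w (FibCat.diag (FibCat.toSelf BGc))).p := isFibGrpd_fp
  have hX : Stk.IsStack (J S) BGc := isStack_spQuot G (AlgSt.trivGAction G)
  have hst : Stk.IsStack (J S) (FibCat.fp w (FibCat.diag (FibCat.toSelf BGc))) :=
    isStack_fp (isAlgStack_overCat U).isStack hX
      (isPrestack_of_isStack (isStack_fp hX hX (isPrestack_of_isStack isStack_selfOver)))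
  obtain ⟨E', hE', -, -⟩ := isEquivOver_symm hE
  exact (isSheaf_iff_isSheaf_of_type _ _).2 (isStack_ofPsh_iff.1 (isStack_of_isEquivOver hE' hst))

/-- The sheaf of isomorphisms of the two torsors. -/
noncomputable def diagSh : Sp S := ⟨diagPsh w, isSheaf_diagPsh w⟩

/-- Its map to the test scheme. -/
noncomputable def diagπ : diagSh w ⟶ (yon S).obj U :=
  ObjectProperty.homMk
    { app := fun T => ↾fun p => ⟨(p : DIso w T.unop).k⟩
      naturality := fun T T' g => by
        ext p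
        exact congrArg ULift.up (DIso.res_k g.unop p) }

/-- The element of a section of the sheaf. -/
noncomputable def eltOf {T : Over S} (p : (yon S).obj T ⟶ diagSh w) : DIso w T :=
  (J S).uliftYonedaEquiv.{u+1} p

theorem eltOf_res {T T' : Over S} (j : T' ⟶ T) (p : (yon S).obj T ⟶ diagSh w) :
    eltOf w ((yon S).map j ≫ p) = (eltOf w p).res j :=
  (GrothendieckTopology.uliftYonedaEquiv_naturality.{u+1} (J S) p j).symm

theorem eltOf_π {T : Over S} (p : (yon S).obj T ⟶ diagSh w) : p ≫ diagπ w = (yon S).map (eltOf w p).k := by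
  apply (J S).uliftYonedaEquiv.{u+1}.injective
  rw [GrothendieckTopology.uliftYonedaEquiv_comp]
  exact (congrArg ULift.up (Category.id_comp _).symm).trans
    (GrothendieckTopology.uliftYonedaEquiv_apply.{u+1} (J S) ((yon S).map (eltOf w p).k)).symm

theorem exists_rep_diag :
    ∃ E : AlgSt.ofSp (diagSh w) ⥤ᵇ FibCat.fp w (FibCat.diag (FibCat.toSelf BGc)),
      FibCat.IsEquivOver E ∧
        AlgSt.spMapOfOver (BasedFunctor.comp E (FibCat.fpFst _ _)) = diagπ w := by
  obtain ⟨E, hE, hfst⟩ := exists_diag_equiv w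
  refine ⟨E, hE, ObjectProperty.hom_ext _ ?_⟩
  ext T p
  refine congrArg ULift.up ?_
  let a : (AlgSt.ofSp (diagSh w)).obj := ⟨T.unop, p⟩
  change eqToHom _ ≫ (E.obj a).obj.fst.hom = (p : DIso w T.unop).k
  have key : ∀ {o : (FibCat.overCat U).obj} (h : o = ov (T := T.unop) (p : DIso w T.unop).k)
      (e : T.unop = o.left), eqToHom e ≫ o.hom = (p : DIso w T.unop).k := fun h e => by
    subst h
    exact Category.id_comp _
  exact key (hfst a) _

section Member

variable {V : Over S} (g : V ⟶ U) (σ : Sect ((aF w).obj (ov g)))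

/-- The section over a scheme above the member. -/
noncomputable def sectAbove {T : Over S} {k : T ⟶ U} (h : T ⟶ V) (e : h ≫ g = k) : Sect ((aF w).obj (ov k)) :=
  Sect.pull ((aF w).map (ovHom h e)) (AlgSt.bHom _ ((aF w).map (ovHom h e)).wb ≫ σ.σ)
    (by rw [Category.assoc, σ.w, Category.comp_id])

theorem sectAbove_natural {T' T : Over S} {k : T ⟶ U} {k' : T' ⟶ U} (h : T ⟶ V) (e : h ≫ g = k) (j : T' ⟶ T)
    (ej : j ≫ k = k') (e' : (j ≫ h) ≫ g = k') :
    (sectAbove w g σ (j ≫ h) e').σ ≫ ((aF w).map (ovHom j ej)).top =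
      AlgSt.bHom _ ((aF w).map (ovHom j ej)).wb ≫ (sectAbove w g σ h e).σ := by
  have hm : (aF w).map (ovHom j ej) ≫ (aF w).map (ovHom h e) = (aF w).map (ovHom (j ≫ h) e') :=
    ((aF w).toFunctor.map_comp _ _).symm.trans (congrArg (fun k => (aF w).map k) (Over.OverMorphism.ext rfl))
  have htop := congrArg (fun k => k.top) hm
  refine ((aF w).map (ovHom h e)).cart.hom_ext ?_ ?_
  · rw [Category.assoc]
    refine (congrArg (_ ≫ ·) htop).trans ((Sect.pull_top _ _ _).trans ?_)
    rw [Category.assoc]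
    refine Eq.trans ?_ (congrArg (_ ≫ ·) (Sect.pull_top _ _ _).symm)
    rw [← Category.assoc]
    refine congrArg (· ≫ σ.σ) ?_
    apply Over.OverMorphism.ext
    change (yon S).map _ = (yon S).map _ ≫ (yon S).map _
    rw [← Functor.map_comp]
    exact congrArg _ (congrArg (fun k => k.base) hm).symm
  · rw [Category.assoc, ((aF w).map (ovHom j ej)).cart.w, ← Category.assoc, (sectAbove w g σ _ e').w,
      Category.id_comp, Category.assoc, (sectAbove w g σ h e).w, Category.comp_id]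

/-- The projection of the second torsor over the member. -/
noncomputable abbrev memR : ((bF w).obj (ov g)).P.left ⟶ (yon S).obj V :=
  ((bF w).obj (ov g)).π.left ≫ (yon S).map (eqToHom ((bF w).w_obj (ov g)))

/-- `l` is the image of the chosen section under the isomorphism `p`. -/
def Img {T : Over S} (h : T ⟶ V) (l : (yon S).obj T ⟶ ((bF w).obj (ov g)).P.left) (p : DIso w T) : Prop :=
  ∃ e : h ≫ g = p.k, ((sectAbove w g σ h e).σ ≫ (p.v ≫ (bF w).map (ovHom h e)).top).left =
    (yon S).map (eqToHom ((aF w).w_obj (ov p.k))) ≫ l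

theorem comp_memR {T : Over S} (h : T ⟶ V) (l : (yon S).obj T ⟶ ((bF w).obj (ov g)).P.left) (p : DIso w T)
    (hi : Img w g σ h l p) : l ≫ memR w g = (yon S).map h := by
  obtain ⟨e, hi⟩ := hi
  let M := p.v ≫ (bF w).map (ovHom h e)
  have h2 : ((sectAbove w g σ h e).σ ≫ M.top).left ≫ ((bF w).obj (ov g)).π.left = (yon S).map M.base := by
    rw [← Over.comp_left, Category.assoc, M.cart.w, ← Category.assoc, (sectAbove w g σ h e).w, Category.id_comp]
    rfl
  rw [hi] at h2
  rw [← cancel_epi ((yon S).map (eqToHom ((aF w).w_obj (ov p.k)))), memR]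
  refine (congrArg (fun z => (yon S).map (eqToHom ((aF w).w_obj (ov p.k))) ≫ z) (Category.assoc _ _ _).symm).trans ?_
  rw [← Category.assoc, ← Category.assoc, h2, ← Functor.map_comp, ← Functor.map_comp]
  congr 1
  change (AlgSt.SpBG Scheme.fppfPrecoverage G).p.map (p.v ≫ (bF w).map (ovHom h e)) ≫ _ = _
  rw [Functor.map_comp, p.hv, ASt.map_w (bF w)]
  simp
  rfl

theorem existsUnique_img {T : Over S} (h : T ⟶ V) (l : (yon S).obj T ⟶ ((bF w).obj (ov g)).P.left)
    (hl : l ≫ memR w g = (yon S).map h) : ∃! p : DIso w T, Img w g σ h l p := by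
  let k := h ≫ g
  let A := (aF w).obj (ov k)
  let Bt := (bF w).obj (ov g)
  let f : A.base ⟶ Bt.base := eqToHom ((aF w).w_obj (ov k)) ≫ h ≫ eqToHom ((bF w).w_obj (ov g)).symm
  have hl' : ((yon S).map (eqToHom ((aF w).w_obj (ov k))) ≫ l) ≫ Bt.π.left = (yon S).map f := by
    rw [← cancel_mono ((yon S).map (eqToHom ((bF w).w_obj (ov g)))), Category.assoc, Category.assoc]
    refine (congrArg (_ ≫ ·) hl).trans ?_
    rw [← Functor.map_comp, ← Functor.map_comp]
    congr 1
    simp [f]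
  obtain ⟨m, ⟨hm, hmt⟩, -⟩ := (sectAbove w g σ h (k := k) rfl).existsUnique_hom f (eq_base (T := A.base) _ _)
    (Over.homMk ((yon S).map (eqToHom ((aF w).w_obj (ov k))) ≫ l) (eq_base (T := A.base) _ _))
    (Over.OverMorphism.ext hl')
  let e₀ := ((aF w).w_obj (ov k)).trans ((bF w).w_obj (ov k)).symm
  have he : eqToHom e₀ ≫ (AlgSt.SpBG Scheme.fppfPrecoverage G).p.map ((bF w).map (ovHom h rfl)) =
      (AlgSt.SpBG Scheme.fppfPrecoverage G).p.map m := by
    rw [ASt.map_w (bF w)]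
    change _ = m.base
    rw [hm]
    simp [f]
    rfl
  refine ⟨⟨k, facMap _ m (eqToHom e₀) he, map_facMap _ _ _ _⟩, ⟨rfl, ?_⟩, fun p hp => ?_⟩
  · rw [facMap_comp]
    exact congrArg (fun z => z.left) hmt
  · obtain ⟨k', v, hv⟩ := p
    obtain ⟨e, hp⟩ := hp
    change h ≫ g = k' at e
    subst e
    have hh : v ≫ (bF w).map (ovHom h rfl) = m := by
      refine (sectAbove w g σ h rfl).hom_ext ?_ (Over.OverMorphism.ext (hp.trans (congrArg (fun z => z.left) hmt).symm))
      change (AlgSt.SpBG Scheme.fppfPrecoverage G).p.map (v ≫ (bF w).map (ovHom h rfl)) = m.base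
      rw [Functor.map_comp, hv, ASt.map_w (bF w), hm]
      simp [f]
      rfl
    have : v = facMap _ m (eqToHom e₀) he :=
      hom_ext ((bF w).map (ovHom h rfl)) (hv.trans (map_facMap _ _ _ _).symm) (hh.trans (facMap_comp _ _ _ _).symm)
    subst this
    rfl

theorem img_res {T' T : Over S} (j : T' ⟶ T) (h : T ⟶ V) (l : (yon S).obj T ⟶ ((bF w).obj (ov g)).P.left)
    (p : DIso w T) (hi : Img w g σ h l p) : Img w g σ (j ≫ h) ((yon S).map j ≫ l) (p.res j) := by
  obtain ⟨e, hi⟩ := hi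
  obtain ⟨ej, hj⟩ := p.rel_res j
  have e' : (j ≫ h) ≫ g = (p.res j).k := by rw [Category.assoc, e, ej]
  refine ⟨e', ?_⟩
  have hc : ovHom (k := g) (j ≫ h) e' = ovHom j ej ≫ ovHom h e := Over.OverMorphism.ext rfl
  rw [hc, (bF w).toFunctor.map_comp, ← Category.assoc, hj, Category.assoc, AlgSt.SpQuotObj.comp_top,
    ← Category.assoc, sectAbove_natural w g σ h e j ej e', Category.assoc, Over.comp_left, hi]
  change (yon S).map ((AlgSt.SpBG Scheme.fppfPrecoverage G).p.map ((aF w).map (ovHom j ej))) ≫ _ = _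
  rw [← Category.assoc, ← Category.assoc, ← Functor.map_comp, ← Functor.map_comp]
  congr 2
  rw [ASt.map_w (aF w)]
  simp
  rfl

include σ in
theorem exists_isPullback_member :
    ∃ Φ : ((bF w).obj (ov g)).P.left ⟶ diagSh w, IsPullback Φ (memR w g) (diagπ w) ((yon S).map g) := by
  have hh : ∀ (T : Over S) (l : (yon S).obj T ⟶ ((bF w).obj (ov g)).P.left),
      ∃ p : DIso w T, Img w g σ ((yon S).preimage (l ≫ memR w g)) l p :=
    fun T l => (existsUnique_img w g σ _ l ((yon S).map_preimage _).symm).exists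
  choose P hP using hh
  let φ : ∀ T : Over S, ((yon S).obj T ⟶ ((bF w).obj (ov g)).P.left) → ((yon S).obj T ⟶ diagSh w) := fun T l =>
    (J S).uliftYonedaEquiv.{u+1}.symm (P T l : (diagSh w).obj.obj (op T))
  have hφ : ∀ {T : Over S} (l : (yon S).obj T ⟶ ((bF w).obj (ov g)).P.left), eltOf w (φ T l) = P T l :=
    fun l => Equiv.apply_symm_apply _ _
  let Φ := homOfPts φ fun T T' j l => by
    apply (J S).uliftYonedaEquiv.{u+1}.injective
    refine (eltOf_res w j (φ T l)).trans ?_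
    rw [hφ]
    refine Eq.trans ?_ (hφ ((yon S).map j ≫ l)).symm
    have h1 : (yon S).preimage (((yon S).map j ≫ l) ≫ memR w g) = j ≫ (yon S).preimage (l ≫ memR w g) :=
      (yon S).map_injective (by simp)
    exact (existsUnique_img w g σ _ _ ((yon S).map_preimage _).symm).unique
      (h1 ▸ img_res w g σ j _ l _ (hP T l)) (hP T' _)
  have hΦ : ∀ {T : Over S} (l : (yon S).obj T ⟶ ((bF w).obj (ov g)).P.left),
      eltOf w (l ≫ Φ) = P T l := fun l => by rw [pts_homOfPts, hφ]
  refine ⟨Φ, isPullback_of_pts (hom_ext_of_yon fun T l => ?_) fun T p b e => ?_⟩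
  · rw [← Category.assoc, eltOf_π, hΦ, ← Category.assoc]
    obtain ⟨e, -⟩ := hP T l
    rw [← e, Functor.map_comp, Functor.map_preimage]
  · let h := (yon S).preimage b
    have hk : h ≫ g = (eltOf w p).k := (yon S).map_injective (by
      rw [Functor.map_comp, Functor.map_preimage, ← eltOf_π, e])
    let l : (yon S).obj T ⟶ ((bF w).obj (ov g)).P.left :=
      (yon S).map (eqToHom ((aF w).w_obj (ov (eltOf w p).k)).symm) ≫
        ((sectAbove w g σ h hk).σ ≫ ((eltOf w p).v ≫ (bF w).map (ovHom h hk)).top).left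
    have hi : Img w g σ h l (eltOf w p) := ⟨hk, by
      change _ = _ ≫ l
      rw [← Category.assoc, ← Functor.map_comp, eqToHom_trans, eqToHom_refl, CategoryTheory.Functor.map_id]
      exact (Category.id_comp _).symm⟩
    have hb : l ≫ memR w g = b := (comp_memR w g σ h l _ hi).trans ((yon S).map_preimage b)
    refine ⟨l, ⟨?_, hb⟩, fun l' hl' => ?_⟩
    · apply (J S).uliftYonedaEquiv.{u+1}.injective
      refine (hΦ l).trans ?_
      have h1 : (yon S).preimage (l ≫ memR w g) = h := by rw [hb]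
      exact (existsUnique_img w g σ _ l ((yon S).map_preimage _).symm).unique (hP T l) (h1.symm ▸ hi)
    · have h1 : (yon S).preimage (l' ≫ memR w g) = h := by rw [hl'.2]
      have hp : P T l' = eltOf w p := by rw [← hΦ, hl'.1]
      have hi' : Img w g σ h l' (eltOf w p) := hp ▸ h1 ▸ hP T l'
      obtain ⟨e₁, h₁⟩ := hi
      obtain ⟨e₂, h₂⟩ := hi'
      exact ((cancel_epi ((yon S).map (eqToHom ((aF w).w_obj (ov (eltOf w p).k))))).1 (h₁.symm.trans h₂)).symm

end Member

variable {w}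

/-- The projection of the torsor over the test scheme has the properties of the group. -/
theorem prop_topR {P : MorphismProperty (Sp S)} [P.IsStableUnderBaseChange] (hloc : IsLocalOnBase IsFppfCover P)
    (hG : IsAlgSpace G.left) (hP : P G.hom)
    (y : FibCat.overCat U ⥤ᵇ AlgSt.SpBG Scheme.fppfPrecoverage G) : P (topR y) :=
  (P.cancel_right_of_respectsIso _ _).2 (prop_π hloc isAlgSpace_base hG hP _)

theorem exists_unit {P : MorphismProperty (Sp S)} [P.IsStableUnderBaseChange] (hloc : IsLocalOnBase IsFppfCover P)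
    (hG : IsAlgSpace G.left) (hP : P G.hom) (y : FibCat.overCat U ⥤ᵇ AlgSt.SpBG Scheme.fppfPrecoverage G) :
    ∃ (F : AlgSp.Space S) (e : AlgSt.ofSp F.obj ⥤ᵇ
        FibCat.fp y (AlgSt.spQuotMap Scheme.fppfPrecoverage G (AlgSt.trivGAction G))),
      FibCat.IsEquivOver e ∧ P (AlgSt.spMapOfOver (BasedFunctor.comp e (FibCat.fpFst _ _))) := by
  obtain ⟨e, he, hr⟩ := exists_rep_unit y
  exact ⟨⟨_, isAlgSpace_P isAlgSpace_base hG (topObj y)⟩, e, he, hr ▸ prop_topR hloc hG hP y⟩

variable (w)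

theorem exists_diag {P : MorphismProperty (Sp S)} [P.IsStableUnderBaseChange] (hloc : IsLocalOnBase IsFppfCover P)
    (hG : IsAlgSpace G.left) (hP : P G.hom) :
    ∃ (F : AlgSp.Space S) (e : AlgSt.ofSp F.obj ⥤ᵇ FibCat.fp w (FibCat.diag (FibCat.toSelf BGc))),
      FibCat.IsEquivOver e ∧ P (AlgSt.spMapOfOver (BasedFunctor.comp e (FibCat.fpFst _ _))) := by
  obtain ⟨R, hR, hsec⟩ := (topObj (aF w)).loc
  obtain ⟨J₀, W₀, f₀, rfl⟩ := Presieve.exists_eq_ofArrows R
  obtain ⟨h1, h2⟩ := (Scheme.ofArrows_mem_precoverage_iff _).1 hR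
  let eb : (topObj (aF w)).base = U := (aF w).w_obj (ov (𝟙 U))
  have hc' : ∀ t : ↥U.left, ∃ i z, (f₀ i ≫ (eqToHom eb).left) z = t := fun t => by
    obtain ⟨i, z, hz⟩ := h1 ((eqToHom eb.symm).left t)
    refine ⟨i, z, ?_⟩
    rw [Scheme.Hom.comp_apply, hz, ← Scheme.Hom.comp_apply, ← Over.comp_left, eqToHom_trans]
    rfl
  choose i z hz using hc'
  let f : ∀ t : ↥U.left, W₀ (i t) ⟶ U.left := fun t => f₀ (i t) ≫ (eqToHom eb).left
  have hcov : Presieve.ofArrows (fun t => W₀ (i t)) f ∈ Scheme.fppfPrecoverage U.left :=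
    (Scheme.ofArrows_mem_precoverage_iff _).2 ⟨fun t => ⟨t, z t, hz t⟩, fun t => by
      haveI := (h2 (i t)).1
      haveI := (h2 (i t)).2
      exact ⟨(inferInstance : Flat (f t)), (inferInstance : LocallyOfFinitePresentation (f t))⟩⟩
  let g : ∀ t, Over.mk (f t ≫ U.hom) ⟶ U := fun t => Over.homMk (f t)
  have hmem : ∀ t, ∃ Φ, IsPullback Φ (memR w (g t)) (diagπ w) ((yon S).map (g t)) := fun t => by
    obtain ⟨s, hs⟩ := hsec (f₀ (i t)) (Presieve.ofArrows.mk (i t))
    let μ : (aF w).obj (ov (g t)) ⟶ topObj (aF w) := (aF w).map (toTop (ov (g t)))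
    let d₀ : Over.mk (f t ≫ U.hom) ⟶ Over.mk (f₀ (i t) ≫ (topObj (aF w)).base.hom) :=
      Over.homMk (𝟙 _) (by
        change 𝟙 _ ≫ f₀ (i t) ≫ (topObj (aF w)).base.hom = (f₀ (i t) ≫ (eqToHom eb).left) ≫ U.hom
        rw [Category.id_comp, Category.assoc, Over.w (eqToHom eb)])
    let d := eqToHom ((aF w).w_obj (ov (g t))) ≫ d₀
    refine exists_isPullback_member w (g t) (Sect.pull μ
      (Over.homMk ((yon S).map d ≫ s) (eq_base (T := ((aF w).obj (ov (g t))).base) _ _))
      (Over.OverMorphism.ext ?_))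
    change ((yon S).map d ≫ s) ≫ _ = (yon S).map ((AlgSt.SpBG Scheme.fppfPrecoverage G).p.map μ)
    refine ((Category.assoc _ _ _).trans
      ((congrArg ((yon S).map d ≫ ·) hs).trans ((yon S).map_comp _ _).symm)).trans ?_
    congr 1
    rw [show (AlgSt.SpBG Scheme.fppfPrecoverage G).p.map μ = _ from map_toTop (aF w) (ov (g t))]
    change (eqToHom _ ≫ d₀) ≫ _ = eqToHom _ ≫ g t ≫ eqToHom eb.symm
    refine (Category.assoc _ _ _).trans (congrArg (eqToHom _ ≫ ·) ?_)
    apply Over.OverMorphism.ext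
    change 𝟙 _ ≫ f₀ (i t) = (f₀ (i t) ≫ (eqToHom eb).left) ≫ (eqToHom eb.symm).left
    exact (Category.id_comp _).trans ((Category.comp_id _).symm.trans ((congrArg (f₀ (i t) ≫ ·)
      (by rw [← Over.comp_left, eqToHom_trans]; rfl)).trans (Category.assoc _ _ _).symm))
  choose Φ hΦ using hmem
  have hAi : ∀ t, IsAlgSpace ((bF w).obj (ov (g t))).P.left := fun t => isAlgSpace_P isAlgSpace_base hG _
  have hA : IsAlgSpace (diagSh w) := Groth.Agent.S10138.result S ⟨_, IsAlgSpace.yon_obj U⟩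
    (fun t => ⟨_, IsAlgSpace.yon_obj (Over.mk (f t ≫ U.hom))⟩) (fun t => (yon S).map (g t))
    (isFppfCover_yon _ f hcov) (diagSh w) (diagπ w) fun t P' fst snd' hP' =>
      (hAi t).of_iso ((hΦ t).isoIsPullback _ _ hP')
  obtain ⟨E, hE, hEπ⟩ := exists_rep_diag w
  refine ⟨⟨_, hA⟩, E, hE, hEπ ▸ ?_⟩
  exact (hloc _ (fun t => (yon S).map (g t)) (IsAlgSpace.yon_obj U) (fun t => IsAlgSpace.yon_obj _)
    (isFppfCover_yon _ f hcov) (diagπ w) hA _ _ _ hAi hΦ).2 fun t =>
      (P.cancel_right_of_respectsIso _ _).2 (prop_π hloc isAlgSpace_base hG hP _)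

end Groth.Agent.SpTorsLib
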