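import Groth.Agent.SpTorsLib.Hom
import Groth.Agent.SpTorsLib.Stack
import Groth.Agent.ASt.DiagAbs
import Groth.Agent.ASt.StkAlg
import Groth.Agent.ASt.DiagRepDesc

/-!
Fibres of the diagonal and of the unit of the classifying stack of a group sheaf over the base scheme.
-/

set_option autoImplicit false
set_option backward.isDefEq.respectTransparency false
set_option backward.isDefEq.respectTransparency.types false
set_option linter.unusedSectionVars false

universe u

open CategoryTheory CategoryTheory.Limits AlgebraicGeometry MonoidalCategory CartesianMonoidalCategory Opposite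

namespace Groth.Agent.SpTorsLib

open _root_.AlgSp Groth.Agent.ASp Groth.Agent.ASt

variable {S : Scheme.{u}}

instance subsingleton_hom_base (T : Over S) :
    Subsingleton ((yon S).obj T ⟶ (yon S).obj (Over.mk (𝟙 S))) :=
  ⟨fun f g => by
    rw [← (yon S).map_preimage f, ← (yon S).map_preimage g]
    congr 1
    apply Over.OverMorphism.ext
    have h1 := Over.w ((yon S).preimage f)
    have h2 := Over.w ((yon S).preimage g)
    simpa using h1.trans h2.symm⟩

theorem eq_base {T : Over S} (f g : (yon S).obj T ⟶ (yon S).obj (Over.mk (𝟙 S))) : f = g :=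
  Subsingleton.elim f g

theorem isAlgSpace_base : IsAlgSpace ((yon S).obj (Over.mk (𝟙 S))) := IsAlgSpace.yon_obj _

variable {G : Over ((yon S).obj (Over.mk (𝟙 S)))} [GrpObj G]

local notation "BG" => AlgSt.SpBG Scheme.fppfPrecoverage G

instance isFibGrpd_BG : FibCat.IsFibGrpd (AlgSt.SpBG Scheme.fppfPrecoverage G).p := isFibGrpd_spQuot

variable {U : Over S} (y : FibCat.overCat U ⥤ᵇ AlgSt.SpBG Scheme.fppfPrecoverage G)

/-- The torsor over the test scheme. -/
noncomputable abbrev topObj : (AlgSt.SpBG Scheme.fppfPrecoverage G).obj := y.obj (ov (𝟙 U))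

/-- Its projection. -/
noncomputable abbrev topR : (topObj y).P.left ⟶ (yon S).obj U :=
  (topObj y).π.left ≫ (yon S).map (eqToHom (y.w_obj (ov (𝟙 U))))

/-- The morphism to the test scheme under a section of the torsor. -/
noncomputable abbrev secBase (s : (AlgSt.ofSp (topObj y).P.left).obj) : s.base ⟶ U :=
  (yon S).preimage (AlgSt.secYon (X := (topObj y).P) s ≫ topR y)

theorem yon_map_secBase (s : (AlgSt.ofSp (topObj y).P.left).obj) :
    (yon S).map (secBase y s) = AlgSt.secYon (X := (topObj y).P) s ≫ topR y :=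
  (yon S).map_preimage _

theorem secBase_natural {s s' : (AlgSt.ofSp (topObj y).P.left).obj} (g : s ⟶ s') :
    g.hom ≫ secBase y s' = secBase y s := (yon S).map_injective (by
  rw [Functor.map_comp, yon_map_secBase, yon_map_secBase, ← Category.assoc,
    AlgSt.secYon_comp (X := (topObj y).P)])

/-- Sections of the torsor as objects over the test scheme. -/
noncomputable def baseFun : AlgSt.ofSp (topObj y).P.left ⥤ᵇ FibCat.overCat U where
  toFunctor :=
    { obj := fun s => ov (secBase y s)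
      map := fun {s s'} g => Over.homMk g.hom (secBase_natural y g)
      map_id := fun s => Over.OverMorphism.ext rfl
      map_comp := fun g g' => Over.OverMorphism.ext rfl }
  w := rfl

variable {y} (c : AlgSt.ofSp (topObj y).P.left ⥤ᵇ AlgSt.SpBG Scheme.fppfPrecoverage G)
  (ζ : ∀ s, Sect (c.obj s))

/-- The morphism to the torsor given by a section of it. -/
theorem existsUnique_mS (s : (AlgSt.ofSp (topObj y).P.left).obj) :
    ∃! m : c.obj s ⟶ topObj y,
      m.base = eqToHom (c.w_obj s) ≫ secBase y s ≫ eqToHom (y.w_obj (ov (𝟙 U))).symm ∧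
      (ζ s).σ ≫ m.top = Over.homMk ((yon S).map (eqToHom (c.w_obj s)) ≫ AlgSt.secYon (X := (topObj y).P) s)
        (eq_base (T := (c.obj s).base) _ _) := by
  refine (ζ s).existsUnique_hom _ (eq_base (T := (c.obj s).base) _ _) _ (Over.OverMorphism.ext ?_)
  change (_ ≫ _) ≫ (topObj y).π.left = (yon S).map _
  rw [Functor.map_comp, Functor.map_comp, yon_map_secBase]
  simp [topR, eqToHom_map]

/-- The morphism to the torsor given by a section of it. -/
noncomputable def mS (s : (AlgSt.ofSp (topObj y).P.left).obj) : c.obj s ⟶ topObj y :=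
  (existsUnique_mS c ζ s).exists.choose

theorem mS_base (s : (AlgSt.ofSp (topObj y).P.left).obj) : (mS c ζ s).base =
    eqToHom (c.w_obj s) ≫ secBase y s ≫ eqToHom (y.w_obj (ov (𝟙 U))).symm :=
  (existsUnique_mS c ζ s).exists.choose_spec.1

theorem mS_top (s : (AlgSt.ofSp (topObj y).P.left).obj) :
    ((ζ s).σ ≫ (mS c ζ s).top).left =
      (yon S).map (eqToHom (c.w_obj s)) ≫ AlgSt.secYon (X := (topObj y).P) s :=
  congrArg (fun k => k.left) (existsUnique_mS c ζ s).exists.choose_spec.2

theorem eq_mS (s : (AlgSt.ofSp (topObj y).P.left).obj) (m : c.obj s ⟶ topObj y)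
    (hb : m.base = eqToHom (c.w_obj s) ≫ secBase y s ≫ eqToHom (y.w_obj (ov (𝟙 U))).symm)
    (ht : ((ζ s).σ ≫ m.top).left = (yon S).map (eqToHom (c.w_obj s)) ≫ AlgSt.secYon (X := (topObj y).P) s) :
    m = mS c ζ s :=
  (ζ s).hom_ext (hb.trans (mS_base c ζ s).symm) (Over.OverMorphism.ext (ht.trans (mS_top c ζ s).symm))

theorem sec_of_comp {s s' : (AlgSt.ofSp (topObj y).P.left).obj} (g : s.base ⟶ s'.base) (h : c.obj s ⟶ c.obj s')
    (hb : h.base = eqToHom (c.w_obj s) ≫ g ≫ eqToHom (c.w_obj s').symm)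
    (hσ : (ζ s).σ ≫ h.top = AlgSt.bHom h.base h.wb ≫ (ζ s').σ)
    (hm : h ≫ mS c ζ s' = mS c ζ s) :
    (yon S).map g ≫ AlgSt.secYon (X := (topObj y).P) s' = AlgSt.secYon (X := (topObj y).P) s := by
  have h1 : ((ζ s).σ ≫ (h ≫ mS c ζ s').top).left = ((ζ s).σ ≫ (mS c ζ s).top).left := by rw [hm]
  rw [AlgSt.SpQuotObj.comp_top, ← Category.assoc, hσ, Category.assoc, Over.comp_left, mS_top, mS_top] at h1
  change (yon S).map h.base ≫ _ = _ at h1
  rw [← cancel_epi ((yon S).map (eqToHom (c.w_obj s)))]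
  refine Eq.trans ?_ h1
  simp [hb, eqToHom_map]

theorem mS_natural {s s' : (AlgSt.ofSp (topObj y).P.left).obj} (g : s ⟶ s')
    (hσ : (ζ s).σ ≫ (c.map g).top = AlgSt.bHom (c.map g).base (c.map g).wb ≫ (ζ s').σ) :
    c.map g ≫ mS c ζ s' = mS c ζ s := by
  have hb : (c.map g).base = eqToHom (c.w_obj s) ≫ g.hom ≫ eqToHom (c.w_obj s').symm := ASt.map_w c g
  refine eq_mS c ζ s _ ?_ ?_
  · change (c.map g).base ≫ (mS c ζ s').base = _
    rw [hb, mS_base, ← secBase_natural y g]
    simp
  · rw [AlgSt.SpQuotObj.comp_top, ← Category.assoc, hσ, Category.assoc, Over.comp_left, mS_top]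
    change (yon S).map (c.map g).base ≫ _ = _
    rw [hb, Functor.map_comp, Functor.map_comp, ← AlgSt.secYon_comp (X := (topObj y).P) g]
    simp [eqToHom_map]

/-- The vertical morphism to the torsor over the section. -/
noncomputable def psi (s : (AlgSt.ofSp (topObj y).P.left).obj) : c.obj s ⟶ y.obj (ov (secBase y s)) :=
  facMap (y.map (toTop (ov (secBase y s)))) (mS c ζ s)
    (eqToHom ((c.w_obj s).trans (y.w_obj (ov (secBase y s))).symm)) (by
      rw [map_toTop]
      change _ = (mS c ζ s).base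
      rw [mS_base]
      simp)

theorem map_psi (s : (AlgSt.ofSp (topObj y).P.left).obj) :
    (AlgSt.SpBG Scheme.fppfPrecoverage G).p.map (psi c ζ s) =
      eqToHom ((c.w_obj s).trans (y.w_obj (ov (secBase y s))).symm) := map_facMap _ _ _ _

theorem psi_toTop (s : (AlgSt.ofSp (topObj y).P.left).obj) :
    psi c ζ s ≫ y.map (toTop (ov (secBase y s))) = mS c ζ s := facMap_comp _ _ _ _

instance isIso_psi (s : (AlgSt.ofSp (topObj y).P.left).obj) : IsIso (psi c ζ s) :=
  isIso_of_vert (psi c ζ s) (map_psi c ζ s)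

theorem psi_natural {s s' : (AlgSt.ofSp (topObj y).P.left).obj} (g : s ⟶ s')
    (hm : c.map g ≫ mS c ζ s' = mS c ζ s) :
    c.map g ≫ psi c ζ s' = psi c ζ s ≫ y.map ((baseFun y).map g) := by
  refine hom_ext (y.map (toTop (ov (secBase y s')))) ?_ ?_
  · rw [Functor.map_comp, Functor.map_comp, map_psi, map_psi, ASt.map_w c g]
    rw [ASt.map_w y ((baseFun y).map g)]
    rw [Category.assoc, Category.assoc, eqToHom_trans, eqToHom_trans_assoc]
    rfl
  · rw [Category.assoc, Category.assoc, psi_toTop, hm, ← psi_toTop]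
    refine congrArg (psi c ζ s ≫ ·) ?_
    refine Eq.trans ?_ (y.toFunctor.map_comp _ _)
    exact congrArg (fun m => y.map m) (Over.OverMorphism.ext (secBase_natural y g).symm)

theorem exists_iso_psi
    (hζ : ∀ {s s'} (g : s ⟶ s'), (ζ s).σ ≫ (c.map g).top = AlgSt.bHom (c.map g).base (c.map g).wb ≫ (ζ s').σ) :
    ∃ e : c ≅ BasedFunctor.comp (baseFun y) y, ∀ s, e.hom.toNatTrans.app s = psi c ζ s :=
  ⟨BasedNatIso.mkNatIso (F := c) (G := BasedFunctor.comp (baseFun y) y)
    (NatIso.ofComponents (fun s => asIso (psi c ζ s))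
      fun {_ _} g => psi_natural c ζ g (mS_natural c ζ g (hζ g))) fun s =>
      isHomLift_id_of_map (psi c ζ s) (c.w_obj s) (map_psi c ζ s), fun _ => rfl⟩

/-- The section of the trivial torsor. -/
noncomputable def unitSect (a : (AlgSt.ofSp (𝟙_ (Over ((yon S).obj (Over.mk (𝟙 S))))).left).obj) :
    Sect ((AlgSt.spQuotMap Scheme.fppfPrecoverage G (AlgSt.trivGAction G)).obj a) where
  σ := unitSec _
  w := unitSec_snd _

theorem unitSect_natural {a a' : (AlgSt.ofSp (𝟙_ (Over ((yon S).obj (Over.mk (𝟙 S))))).left).obj} (g : a ⟶ a') :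
    (unitSect (G := G) a).σ ≫ ((AlgSt.spQuotMap Scheme.fppfPrecoverage G (AlgSt.trivGAction G)).map g).top =
      AlgSt.bHom _ ((AlgSt.spQuotMap Scheme.fppfPrecoverage G (AlgSt.trivGAction G)).map g).wb ≫
        (unitSect (G := G) a').σ :=
  unitSec_natural _

theorem ofSp_base_ext {a a' : (AlgSt.ofSp (𝟙_ (Over ((yon S).obj (Over.mk (𝟙 S))))).left).obj}
    (g : a.base ⟶ a'.base) :
    ((𝟙_ (Over ((yon S).obj (Over.mk (𝟙 S))))).left).obj.map g.op a'.sec = a.sec :=
  (J S).uliftYonedaEquiv.{u+1}.symm.injective (eq_base _ _)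

theorem sec_eq_of_yon {F : Sp S} {X : Over F} {s s' : (AlgSt.ofSp X.left).obj} (g : s.base ⟶ s'.base)
    (h : (yon S).map g ≫ AlgSt.secYon s' = AlgSt.secYon s) : X.left.obj.map g.op s'.sec = s.sec := by
  apply (J S).uliftYonedaEquiv.{u+1}.symm.injective
  rw [← GrothendieckTopology.uliftYonedaEquiv_symm_naturality_left]
  exact h

variable (y)

theorem exists_rep_unit :
    ∃ e : AlgSt.ofSp (topObj y).P.left ⥤ᵇ
        FibCat.fp y (AlgSt.spQuotMap Scheme.fppfPrecoverage G (AlgSt.trivGAction G)),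
      FibCat.IsEquivOver e ∧ AlgSt.spMapOfOver (BasedFunctor.comp e (FibCat.fpFst _ _)) = topR y := by
  let q := AlgSt.spQuotMap Scheme.fppfPrecoverage G (AlgSt.trivGAction G)
  let b : AlgSt.ofSp (topObj y).P.left ⥤ᵇ AlgSt.ofSp (𝟙_ (Over ((yon S).obj (Over.mk (𝟙 S))))).left :=
    Stk.ofPshMap (topObj y).P.hom.hom
  let c := BasedFunctor.comp b q
  let ζ := fun s => unitSect (G := G) (b.obj s)
  obtain ⟨θ, hθ⟩ := exists_iso_psi (y := y) c ζ fun {s s'} g => unitSect_natural (b.map g)
  let E := FibCat.fpLift (F := y) (G := q) (baseFun y) b θ.symm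
  have hθ' : ∀ s, psi c ζ s ≫ (E.obj s).obj.iso.hom = 𝟙 _ := fun s => by
    rw [← hθ s]
    exact app_eq_of_eq θ.hom_inv_id s
  refine ⟨E, ?_, ?_⟩
  · haveI : E.toFunctor.Faithful := ⟨fun {s s' g g'} h =>
      Stk.EltObj.hom_ext (congrArg (fun n => n.hom.fst.left) h)⟩
    haveI : E.toFunctor.Full := ⟨fun {s s'} n => by
      let g : s.base ⟶ s'.base := n.hom.fst.left
      have hk : g ≫ secBase y s' = secBase y s := Over.w n.hom.fst
      have hsnd : n.hom.snd.hom = g := by
        refine (fp_map_snd n).trans ?_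
        exact (congrArg (_ ≫ ·) (Category.comp_id g)).trans (Category.id_comp _)
      have w := n.hom.w
      have hm : q.map n.hom.snd ≫ mS c ζ s' = mS c ζ s := by
        have h1 : q.map n.hom.snd ≫ psi c ζ s' = psi c ζ s ≫ y.map n.hom.fst := by
          have h2 := hθ' s
          calc q.map n.hom.snd ≫ psi c ζ s'
              = (psi c ζ s ≫ (E.obj s).obj.iso.hom) ≫ q.map n.hom.snd ≫ psi c ζ s' := by
                rw [h2]; exact (Category.id_comp _).symm
            _ = psi c ζ s ≫ ((E.obj s).obj.iso.hom ≫ q.map n.hom.snd) ≫ psi c ζ s' := by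
                simp only [Category.assoc]
            _ = psi c ζ s ≫ (y.map n.hom.fst ≫ (E.obj s').obj.iso.hom) ≫ psi c ζ s' := by rw [← w]
            _ = psi c ζ s ≫ y.map n.hom.fst := by
                have h3 : psi c ζ s' ≫ (E.obj s').obj.iso.hom = 𝟙 _ := hθ' s'
                have h4 : (E.obj s').obj.iso.hom ≫ psi c ζ s' = 𝟙 _ :=
                  ((IsIso.eq_inv_of_hom_inv_id h3) ▸ IsIso.inv_hom_id (psi c ζ s'))
                rw [Category.assoc, h4, Category.comp_id]
        rw [← psi_toTop, ← Category.assoc, h1, Category.assoc, ← psi_toTop]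
        refine congrArg (psi c ζ s ≫ ·) ?_
        refine (y.toFunctor.map_comp _ _).symm.trans ?_
        exact congrArg (fun m => y.map m) (Over.OverMorphism.ext hk)
      refine ⟨⟨g, sec_eq_of_yon g (sec_of_comp c ζ g (q.map n.hom.snd) ?_ (unitSect_natural n.hom.snd) hm)⟩, ?_⟩
      · change n.hom.snd.hom = _
        rw [hsnd]
        exact ((congrArg (eqToHom _ ≫ ·) (Category.comp_id g)).trans (Category.id_comp g)).symm
      · exact fp_hom_ext (Over.OverMorphism.ext rfl) (Stk.EltObj.hom_ext hsnd.symm)⟩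
    refine isEquivOver_of_vert E fun m => ?_
    obtain ⟨⟨a₁, x, φ⟩, hprop⟩ := m
    let m₀ : (FibCat.fp y q).obj := ⟨⟨a₁, x, φ⟩, hprop⟩
    have hx : x.base = a₁.left := fp_snd_base m₀
    let μ : q.obj x ⟶ topObj y := φ.inv ≫ y.map (toTop a₁)
    have hφ : φ.inv.base = eqToHom ((q.w_obj x).trans (hx.trans (y.w_obj a₁).symm)) := by
      have h1 : (AlgSt.SpBG Scheme.fppfPrecoverage G).p.map φ.hom = _ := fp_iso_map m₀
      change (AlgSt.SpBG Scheme.fppfPrecoverage G).p.map φ.inv = _
      rw [← cancel_epi ((AlgSt.SpBG Scheme.fppfPrecoverage G).p.map φ.hom), ← Functor.map_comp,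
        φ.hom_inv_id, CategoryTheory.Functor.map_id, h1]
      simp
    have hμ : μ.base = eqToHom hx ≫ a₁.hom ≫ eqToHom (y.w_obj (ov (𝟙 U))).symm := by
      change φ.inv.base ≫ (y.map (toTop a₁)).base = _
      rw [hφ, show (y.map (toTop a₁)).base = _ from map_toTop y a₁]
      simp
    let s : (AlgSt.ofSp (topObj y).P.left).obj :=
      ⟨x.base, (J S).uliftYonedaEquiv.{u+1} (((unitSect (G := G) x).σ ≫ μ.top).left)⟩
    have hs : AlgSt.secYon (X := (topObj y).P) s = ((unitSect (G := G) x).σ ≫ μ.top).left :=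
      Equiv.symm_apply_apply _ _
    have hk : secBase y s = eqToHom hx ≫ a₁.hom := (yon S).map_injective (by
      have h2 : ((unitSect (G := G) x).σ ≫ μ.top).left ≫ (topObj y).π.left = (yon S).map μ.base := by
        rw [← Over.comp_left, Category.assoc, μ.cart.w, ← Category.assoc, (unitSect x).w, Category.id_comp]
        rfl
      rw [yon_map_secBase, hs, topR, reassoc_of% h2, hμ, ← Functor.map_comp]
      simp)
    let bx : b.obj s ⟶ x := ⟨𝟙 _, ofSp_base_ext (a := b.obj s) (a' := x) (𝟙 _)⟩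
    let fs : ov (secBase y s) ≅ a₁ := Over.isoMk (eqToIso hx) (by simp [hk])
    have hw : y.map fs.hom ≫ φ.hom = (E.obj s).obj.iso.hom ≫ q.map bx := by
      have h1 : psi c ζ s ≫ y.map fs.hom = q.map bx ≫ φ.inv := by
        refine hom_ext (y.map (toTop a₁)) ?_ ?_
        · rw [Functor.map_comp, Functor.map_comp, map_psi, ASt.map_w y fs.hom]
          change eqToHom _ ≫ eqToHom _ ≫ fs.hom.left ≫ eqToHom _ = 𝟙 _ ≫ φ.inv.base
          rw [hφ]
          simp [fs]
        · rw [Category.assoc, Category.assoc]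
          refine Eq.trans ?_ (eq_mS c ζ s (q.map bx ≫ μ) ?_ ?_).symm
          · rw [← psi_toTop]
            refine congrArg (psi c ζ s ≫ ·) ?_
            refine (y.toFunctor.map_comp _ _).symm.trans ?_
            exact congrArg (fun m => y.map m) (Over.OverMorphism.ext hk.symm)
          · change 𝟙 _ ≫ μ.base = _
            rw [hμ, hk]
            simp
          · rw [AlgSt.SpQuotObj.comp_top, ← Category.assoc, unitSect_natural bx, Category.assoc, Over.comp_left,
              ← hs]
            change (yon S).map (𝟙 x.base) ≫ _ = _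
            simp
      have h4 : (E.obj s).obj.iso.hom ≫ psi c ζ s = 𝟙 _ :=
        ((IsIso.eq_inv_of_hom_inv_id (hθ' s)) ▸ IsIso.inv_hom_id (psi c ζ s))
      calc y.map fs.hom ≫ φ.hom = ((E.obj s).obj.iso.hom ≫ psi c ζ s) ≫ y.map fs.hom ≫ φ.hom := by
              rw [h4]; exact (Category.id_comp _).symm
        _ = (E.obj s).obj.iso.hom ≫ q.map bx ≫ φ.inv ≫ φ.hom := by
              rw [Category.assoc, ← Category.assoc (psi c ζ s), h1, Category.assoc]
        _ = (E.obj s).obj.iso.hom ≫ q.map bx := by rw [φ.inv_hom_id, Category.comp_id]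
    refine ⟨s, hx, ?_⟩
    let n : E.obj s ⟶ m₀ := fpHomMk fs.hom bx hw
    have hn : (FibCat.fp y q).p.map n = eqToHom hx := rfl
    haveI : FibCat.IsFibGrpd (AlgSt.ofSp (𝟙_ (Over ((yon S).obj (Over.mk (𝟙 S))))).left).p :=
      isFibGrpd_ofSp _
    haveI : FibCat.IsFibGrpd (FibCat.fp y q).p := isFibGrpd_fp
    haveI := isIso_of_vert n hn
    exact ⟨asIso n, hn⟩
  · refine hom_ext_of_yon fun T l => ?_
    apply (J S).uliftYonedaEquiv.{u+1}.injective
    rw [GrothendieckTopology.uliftYonedaEquiv_comp, GrothendieckTopology.uliftYonedaEquiv_comp]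
    obtain ⟨x, rfl⟩ := (J S).uliftYonedaEquiv.{u+1}.symm.surjective l
    rw [Equiv.apply_symm_apply]
    refine ((AlgSt.spMapOfOver_app _ T x).trans ?_)
    change (⟨𝟙 _ ≫ secBase y ⟨T, x⟩⟩ : ULift.{u+1} (T ⟶ U)) = _
    rw [Category.id_comp]
    have h1 := congrArg (J S).uliftYonedaEquiv.{u+1} (yon_map_secBase y ⟨T, x⟩)
    rw [GrothendieckTopology.uliftYonedaEquiv_comp, Equiv.apply_symm_apply] at h1
    exact Eq.trans ((congrArg ULift.up (Category.id_comp (secBase y ⟨T, x⟩)).symm).trans (GrothendieckTopology.uliftYonedaEquiv_apply.{u+1} (J S) ((yon S).map (secBase y ⟨T, x⟩))).symm) h1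

end Groth.Agent.SpTorsLib
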