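import Groth.Agent.ASp.YonExt
import Groth.Agent.ASp.FppfGlue

/-!
Gluing fppf sheaves along a covering sieve: existence, and the universal property of the glued sheaf.
-/

set_option autoImplicit false
set_option backward.isDefEq.respectTransparency false
set_option backward.isDefEq.respectTransparency.types false

universe u

open CategoryTheory CategoryTheory.Limits AlgebraicGeometry Opposite

namespace Groth.Agent.SpTorsLib

open _root_.AlgSp Groth.Agent.ASp

variable {S : Scheme.{u}}

/-- Compatible maps into a sheaf on a covering sieve glue uniquely. -/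
theorem existsUnique_sieve {W : Over S} {T : Sieve W} (hT : T ∈ (J S) W) {F : Sp S}
    (x : ∀ ⦃W' : Over S⦄ (k : W' ⟶ W), T k → ((yon S).obj W' ⟶ F))
    (hx : ∀ ⦃W' W'' : Over S⦄ (k : W' ⟶ W) (hk : T k) (j : W'' ⟶ W'),
      (yon S).map j ≫ x k hk = x (j ≫ k) (T.downward_closed hk j)) :
    ∃! l : (yon S).obj W ⟶ F, ∀ ⦃W' : Over S⦄ (k : W' ⟶ W) (hk : T k), (yon S).map k ≫ l = x k hk := by
  have hF := (isSheaf_iff_isSheaf_of_type _ _).1 F.2 _ hT
  obtain ⟨t, ht, htu⟩ := hF (fun W' k hk => (J S).uliftYonedaEquiv.{u+1} (x k hk))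
    ((Presieve.compatible_iff_sieveCompatible _).2 fun W' W'' k j hk => by
      rw [GrothendieckTopology.uliftYonedaEquiv_naturality.{u+1}, hx k hk j])
  refine ⟨(J S).uliftYonedaEquiv.{u+1}.symm t, fun W' k hk => (J S).uliftYonedaEquiv.{u+1}.injective ?_,
    fun l hl => (J S).uliftYonedaEquiv.{u+1}.injective ?_⟩
  · rw [← GrothendieckTopology.uliftYonedaEquiv_naturality.{u+1}, Equiv.apply_symm_apply]
    exact ht k hk
  · rw [Equiv.apply_symm_apply]
    refine htu _ fun W' k hk => ?_
    rw [GrothendieckTopology.uliftYonedaEquiv_naturality.{u+1}, hl k hk]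

/-- Maps out of a scheme into a sheaf agree if they agree on a covering sieve. -/
theorem hom_ext_sieve {W : Over S} {T : Sieve W} (hT : T ∈ (J S) W) {F : Sp S}
    {a b : (yon S).obj W ⟶ F}
    (h : ∀ ⦃W' : Over S⦄ (k : W' ⟶ W), T k → (yon S).map k ≫ a = (yon S).map k ≫ b) : a = b :=
  (existsUnique_sieve hT (fun W' k _ => (yon S).map k ≫ a) fun W' W'' k _ j => by
    rw [← Category.assoc, ← Functor.map_comp]).unique (fun _ _ _ => rfl) fun _ k hk => (h k hk).symm

/-- A map of sheaves given on sections over schemes. -/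
noncomputable def homOfPts {P X : Sp S}
    (φ : ∀ W : Over S, ((yon S).obj W ⟶ P) → ((yon S).obj W ⟶ X))
    (hφ : ∀ ⦃W W' : Over S⦄ (j : W' ⟶ W) (p : (yon S).obj W ⟶ P),
      (yon S).map j ≫ φ W p = φ W' ((yon S).map j ≫ p)) : P ⟶ X :=
  ⟨{ app := fun W => ↾fun e => (J S).uliftYonedaEquiv.{u+1} (φ W.unop ((J S).uliftYonedaEquiv.{u+1}.symm e))
     naturality := fun W W' j => by
       ext e
       change (J S).uliftYonedaEquiv.{u+1} (φ W'.unop ((J S).uliftYonedaEquiv.{u+1}.symm (P.obj.map j e))) =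
         X.obj.map j ((J S).uliftYonedaEquiv.{u+1} (φ W.unop ((J S).uliftYonedaEquiv.{u+1}.symm e)))
       rw [← Quiver.Hom.op_unop j, GrothendieckTopology.uliftYonedaEquiv_naturality.{u+1}, hφ,
         GrothendieckTopology.uliftYonedaEquiv_symm_naturality_left]
       }⟩

theorem pts_homOfPts {P X : Sp S}
    (φ : ∀ W : Over S, ((yon S).obj W ⟶ P) → ((yon S).obj W ⟶ X))
    (hφ : ∀ ⦃W W' : Over S⦄ (j : W' ⟶ W) (p : (yon S).obj W ⟶ P),
      (yon S).map j ≫ φ W p = φ W' ((yon S).map j ≫ p)) {W : Over S} (p : (yon S).obj W ⟶ P) :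
    p ≫ homOfPts φ hφ = φ W p := by
  apply (J S).uliftYonedaEquiv.{u+1}.injective
  rw [GrothendieckTopology.uliftYonedaEquiv_comp]
  change (J S).uliftYonedaEquiv.{u+1} (φ W ((J S).uliftYonedaEquiv.{u+1}.symm ((J S).uliftYonedaEquiv.{u+1} p))) = _
  rw [Equiv.symm_apply_apply]

/-- A square of sheaves is cartesian if it is so on sections over schemes. -/
theorem isPullback_of_pts {P X Y Z : Sp S} {fst : P ⟶ X} {snd : P ⟶ Y} {f : X ⟶ Z} {g : Y ⟶ Z}
    (w : fst ≫ f = snd ≫ g)
    (h : ∀ (W : Over S) (a : (yon S).obj W ⟶ X) (b : (yon S).obj W ⟶ Y), a ≫ f = b ≫ g →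
      ∃! l : (yon S).obj W ⟶ P, l ≫ fst = a ∧ l ≫ snd = b) : IsPullback fst snd f g := by
  let L : P ⟶ pullback f g := pullback.lift fst snd w
  have : IsIso L := isIso_of_yon L fun W z => by
    obtain ⟨l, ⟨h1, h2⟩, hu⟩ := h W (z ≫ pullback.fst f g) (z ≫ pullback.snd f g)
      (by simp [pullback.condition])
    refine ⟨l, pullback.hom_ext ?_ ?_, fun l' hl' => hu l' ⟨?_, ?_⟩⟩
    · simpa [L] using h1
    · simpa [L] using h2
    · rw [← hl']; simp [L]
    · rw [← hl']; simp [L]
  exact (IsPullback.of_hasPullback f g).of_iso (asIso L).symm (Iso.refl _) (Iso.refl _) (Iso.refl _)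
    (by simp [L]) (by simp [L]) (by simp) (by simp)

section

variable {U : Over S} {R : Sieve U}

/-- A member of a sieve as an object. -/
abbrev rObj {W : Over S} (t : W ⟶ U) (ht : R t) : R.arrows.category := ⟨Over.mk t, ht⟩

/-- A factorisation of members of a sieve as a morphism. -/
abbrev rHom {W : Over S} {t : W ⟶ U} {ht : R t} {a : R.arrows.category} (g : W ⟶ a.obj.left)
    (e : g ≫ a.obj.hom = t) : rObj t ht ⟶ a :=
  ObjectProperty.homMk (Over.homMk g e)

/-- Sheaves over the members of a sieve, with cartesian transition squares. -/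
structure GData (R : Sieve U) where
  F : R.arrows.category → Sp S
  q : ∀ a, F a ⟶ (yon S).obj a.obj.left
  map : ∀ {a b : R.arrows.category}, (a ⟶ b) → (F a ⟶ F b)
  cart : ∀ {a b : R.arrows.category} (m : a ⟶ b), IsPullback (map m) (q a) (q b) ((yon S).map m.hom.left)
  map_comp : ∀ {a b c : R.arrows.category} (m : a ⟶ b) (n : b ⟶ c), map (m ≫ n) = map m ≫ map n

/-- A sheaf over the base restricting to the given ones. -/
structure IsGlued (D : GData R) {P : Sp S} (r : P ⟶ (yon S).obj U) (ι : ∀ a, D.F a ⟶ P) : Prop where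
  nat : ∀ {a b : R.arrows.category} (m : a ⟶ b), D.map m ≫ ι b = ι a
  cart : ∀ a : R.arrows.category, IsPullback (ι a) (D.q a) r ((yon S).map a.obj.hom)

/-- The only lift of a section over a member of the sieve with identity projection. -/
theorem existsUnique_base_lift {W : Over S} {T : Sp S} {r : T ⟶ (yon S).obj U} {t : W ⟶ U}
    (l : (yon S).obj W ⟶ T) (h : l ≫ r = (yon S).map t) :
    l ≫ r = 𝟙 _ ≫ (yon S).map t := by
  rw [h, Category.id_comp]

variable {D : GData R} {P : Sp S} {r : P ⟶ (yon S).obj U} {ι : ∀ a, D.F a ⟶ P}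

theorem IsGlued.exists_pt (hr : IsGlued D r ι) {W : Over S} {t : W ⟶ U} (ht : R t)
    (p : (yon S).obj W ⟶ P) (e : p ≫ r = (yon S).map t) :
    ∃! l : (yon S).obj W ⟶ D.F (rObj t ht), l ≫ ι _ = p ∧ l ≫ D.q _ = 𝟙 ((yon S).obj W) :=
  ⟨(hr.cart (rObj t ht)).lift p (𝟙 _) (e.trans (Category.id_comp _).symm),
    ⟨(hr.cart _).lift_fst _ _ _, (hr.cart _).lift_snd _ _ _⟩,
    fun l hl => (hr.cart (rObj t ht)).hom_ext (by rw [hl.1, IsPullback.lift_fst])
      (by rw [hl.2, IsPullback.lift_snd])⟩

/-- Compatible maps out of the pieces glue to a unique map out of the glued sheaf. -/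
theorem IsGlued.existsUnique_desc (hr : IsGlued D r ι) (hR : R ∈ (J S) U) {X : Sp S} (f : ∀ a, D.F a ⟶ X)
    (hf : ∀ {a b : R.arrows.category} (m : a ⟶ b), D.map m ≫ f b = f a) :
    ∃! g : P ⟶ X, ∀ a, ι a ≫ g = f a := by
  let tt : ∀ {W : Over S}, ((yon S).obj W ⟶ P) → (W ⟶ U) := fun p => (yon S).preimage (p ≫ r)
  have htt : ∀ {W : Over S} (p : (yon S).obj W ⟶ P), p ≫ r = (yon S).map (tt p) :=
    fun p => ((yon S).map_preimage _).symm
  have hval : ∀ (W : Over S) (p : (yon S).obj W ⟶ P), ∃! y : (yon S).obj W ⟶ X,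
      ∀ ⦃W' : Over S⦄ (k : W' ⟶ W) (t : W' ⟶ U) (ht : R t) (l : (yon S).obj W' ⟶ D.F (rObj t ht)),
        l ≫ ι _ = (yon S).map k ≫ p → l ≫ D.q _ = 𝟙 ((yon S).obj W') → (yon S).map k ≫ y = l ≫ f _ := by
    intro W p
    have hpull : R.pullback (tt p) ∈ (J S) W := (J S).pullback_stable _ hR
    have hk : ∀ ⦃W' : Over S⦄ (k : W' ⟶ W), (R.pullback (tt p)) k →
        ∀ (hk : R (k ≫ tt p)), ∃! l, l ≫ ι (rObj _ hk) = (yon S).map k ≫ p ∧
          l ≫ D.q (rObj _ hk) = 𝟙 ((yon S).obj W') :=
      fun W' k _ hk => hr.exists_pt hk _ (by rw [Category.assoc, htt, Functor.map_comp])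
    choose L hL hLu using hk
    obtain ⟨y, hy, hyu⟩ := existsUnique_sieve hpull (fun W' k h => L k h h ≫ f _) (by
      intro W' W'' k h j
      have hjk : R ((j ≫ k) ≫ tt p) := (R.pullback (tt p)).downward_closed h j
      let m : rObj ((j ≫ k) ≫ tt p) hjk ⟶ rObj (k ≫ tt p) h := rHom j (Category.assoc _ _ _).symm
      let z := (D.cart m).lift ((yon S).map j ≫ L k h h) (𝟙 _) (by
        change ((yon S).map j ≫ L k h h) ≫ D.q _ = 𝟙 _ ≫ (yon S).map j
        rw [Category.assoc, (hL k h h).2, Category.comp_id, Category.id_comp])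
      have hz : z = L (j ≫ k) hjk hjk := hLu (j ≫ k) hjk hjk z ⟨by
        rw [← hr.nat m, ← Category.assoc, (D.cart m).lift_fst, Category.assoc, (hL k h h).1,
          Functor.map_comp, Category.assoc], (D.cart m).lift_snd _ _ _⟩
      rw [← hz, ← hf m, ← Category.assoc z, (D.cart m).lift_fst, Category.assoc])
    refine ⟨y, fun W' k t ht l h1 h2 => ?_, fun y' hy' => hyu y' fun W' k h => hy' k _ h _ (hL k h h).1 (hL k h h).2⟩
    have e : t = k ≫ tt p := (yon S).map_injective (by
      have h3 := congrArg (· ≫ r) h1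
      simp only [Category.assoc] at h3
      rw [(hr.cart _).w, ← Category.assoc, h2, Category.id_comp, htt, ← Functor.map_comp] at h3
      exact h3)
    subst e
    rw [hy k ht, hLu k ht ht l ⟨h1, h2⟩]
  choose val hval hvalu using hval
  let g := homOfPts val fun W W' j p => hvalu W' _ _ fun W'' k t ht l h1 h2 => by
    rw [← Category.assoc, ← Functor.map_comp]
    exact hval W p (k ≫ j) t ht l (by rw [h1, Functor.map_comp, Category.assoc]) h2
  refine ⟨g, fun a => hom_ext_of_yon fun W l => ?_, fun g' hg' => hom_ext_of_yon fun W p => ?_⟩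
  · rw [← Category.assoc, pts_homOfPts]
    let g₀ := (yon S).preimage (l ≫ D.q a)
    have ht : R (g₀ ≫ a.obj.hom) := R.downward_closed a.property g₀
    let m : rObj (g₀ ≫ a.obj.hom) ht ⟶ a := rHom g₀ rfl
    let z := (D.cart m).lift l (𝟙 ((yon S).obj W)) (by
      rw [Category.id_comp]; exact ((yon S).map_preimage _).symm)
    have h := hval W (l ≫ ι a) (𝟙 W) _ ht z (by
      rw [← hr.nat m, ← Category.assoc, (D.cart m).lift_fst]
      simp) ((D.cart m).lift_snd _ _ _)
    rw [CategoryTheory.Functor.map_id, Category.id_comp] at h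
    rw [h, ← hf m, ← Category.assoc z, (D.cart m).lift_fst]
  · rw [pts_homOfPts]
    exact hvalu W p _ fun W' k t ht l h1 h2 => by
      rw [← Category.assoc ((yon S).map k), ← h1, Category.assoc, hg']

theorem IsGlued.hom_ext (hr : IsGlued D r ι) (hR : R ∈ (J S) U) {X : Sp S} {g g' : P ⟶ X}
    (h : ∀ a, ι a ≫ g = ι a ≫ g') : g = g' :=
  (hr.existsUnique_desc hR (fun a => ι a ≫ g) fun m => by rw [← Category.assoc, hr.nat]).unique
    (fun _ => rfl) fun a => (h a).symm

/-- A square over the base is cartesian if sections over the members of a covering sieve lift uniquely. -/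
theorem isPullback_of_local (hR : R ∈ (J S) U) {P X Y Z : Sp S} {fst : P ⟶ X} {snd : P ⟶ Y}
    {f : X ⟶ Z} {g : Y ⟶ Z} (w : fst ≫ f = snd ≫ g) (d : Z ⟶ (yon S).obj U)
    (h : ∀ (W : Over S) (a : (yon S).obj W ⟶ X) (b : (yon S).obj W ⟶ Y), a ≫ f = b ≫ g →
      ∀ t : W ⟶ U, (a ≫ f) ≫ d = (yon S).map t → R t →
      ∃! l : (yon S).obj W ⟶ P, l ≫ fst = a ∧ l ≫ snd = b) : IsPullback fst snd f g := by
  refine isPullback_of_pts w fun W a b e => ?_
  let t := (yon S).preimage ((a ≫ f) ≫ d)
  have hpull : R.pullback t ∈ (J S) W := (J S).pullback_stable _ hR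
  have hk : ∀ ⦃W' : Over S⦄ (k : W' ⟶ W), (R.pullback t) k →
      ∃! l : (yon S).obj W' ⟶ P, l ≫ fst = (yon S).map k ≫ a ∧ l ≫ snd = (yon S).map k ≫ b :=
    fun W' k hk => h W' _ _ (by rw [Category.assoc, e, Category.assoc]) (k ≫ t)
      (by simp only [Category.assoc, Functor.map_comp, t, Functor.map_preimage]) hk
  choose L hL hLu using hk
  obtain ⟨l, hl, hlu⟩ := existsUnique_sieve hpull L (by
    intro W' W'' k hk j
    exact hLu _ _ _ ⟨by rw [Category.assoc, (hL k hk).1, Functor.map_comp, Category.assoc],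
      by rw [Category.assoc, (hL k hk).2, Functor.map_comp, Category.assoc]⟩)
  refine ⟨l, ⟨hom_ext_sieve hpull fun W' k hk => by rw [← Category.assoc, hl k hk, (hL k hk).1],
    hom_ext_sieve hpull fun W' k hk => by rw [← Category.assoc, hl k hk, (hL k hk).2]⟩,
    fun l' hl' => hlu l' fun W' k hk => hLu k hk _
      ⟨by rw [Category.assoc, hl'.1], by rw [Category.assoc, hl'.2]⟩⟩

/-- A section of the glued sheaf over `W`: a map to the base and compatible sections of the pieces. -/
structure GPt (D : GData R) (W : Over S) where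
  t : W ⟶ U
  x : ∀ (a : R.arrows.category) (W' : Over S) (h : W' ⟶ W) (g : W' ⟶ a.obj.left),
    h ≫ t = g ≫ a.obj.hom → ((yon S).obj W' ⟶ D.F a)
  x_q : ∀ a W' h g e, x a W' h g e ≫ D.q a = (yon S).map g
  x_base : ∀ a W' h g e (W'' : Over S) (j : W'' ⟶ W') e', (yon S).map j ≫ x a W' h g e = x a W'' (j ≫ h) (j ≫ g) e'
  x_map : ∀ a b (m : a ⟶ b) W' h g e e', x a W' h g e ≫ D.map m = x b W' h (g ≫ m.hom.left) e'

namespace GPt

variable {W : Over S}

theorem ext' {p p' : GPt D W} (ht : p.t = p'.t)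
    (hx : ∀ a W' h g e e', p.x a W' h g e = p'.x a W' h g e') : p = p' := by
  obtain ⟨t, x, _, _, _⟩ := p
  obtain ⟨t', x', _, _, _⟩ := p'
  obtain rfl : t = t' := ht
  obtain rfl : x = x' := by
    funext a W' h g e
    exact hx a W' h g e e
  rfl

theorem x_congr {p p' : GPt D W} (he : p = p') {a W' h h' g g'} (hh : h = h') (hg : g = g') (e) (e') :
    p.x a W' h g e = p'.x a W' h' g' e' := by
  subst he hh hg
  rfl

/-- Restriction. -/
noncomputable def res {W₂ : Over S} (p : GPt D W) (k : W₂ ⟶ W) : GPt D W₂ where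
  t := k ≫ p.t
  x a W' h g e := p.x a W' (h ≫ k) g ((Category.assoc _ _ _).trans e)
  x_q a W' h g e := p.x_q _ _ _ _ _
  x_base a W' h g e W'' j e' := by
    rw [p.x_base a W' _ g _ W'' j (by rw [Category.assoc, Category.assoc, e, Category.assoc])]
    exact x_congr rfl (Category.assoc _ _ _).symm rfl _ _
  x_map a b m W' h g e e' := p.x_map _ _ _ _ _ _ _ _

theorem res_res {W₂ W₃ : Over S} (p : GPt D W) (k : W₂ ⟶ W) (j : W₃ ⟶ W₂) : (p.res k).res j = p.res (j ≫ k) :=
  ext' (Category.assoc _ _ _).symm fun a W' h g e e' => x_congr rfl (Category.assoc _ _ _) rfl _ _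

theorem res_id (p : GPt D W) : p.res (𝟙 W) = p :=
  ext' (Category.id_comp _) fun a W' h g e e' => x_congr rfl (Category.comp_id _) rfl _ _

end GPt

/-- The presheaf of sections of the glued sheaf. -/
noncomputable def gluedPsh (D : GData R) : (Over S)ᵒᵖ ⥤ Type (u + 1) where
  obj W := GPt D W.unop
  map k := ↾fun p => p.res k.unop
  map_id W := by ext p; exact p.res_id
  map_comp k j := by ext p; exact (p.res_res k.unop j.unop).symm

theorem isSheaf_gluedPsh (D : GData R) : Presheaf.IsSheaf (J S) (gluedPsh D) := by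
  rw [isSheaf_iff_isSheaf_of_type]
  intro W T hT p hp
  have hp' : ∀ ⦃W₁ W₂ : Over S⦄ (k : W₁ ⟶ W) (hk : T k) (j : W₂ ⟶ W₁),
      p (j ≫ k) (T.downward_closed hk j) = (p k hk).res j :=
    fun W₁ W₂ k hk j => ((Presieve.compatible_iff_sieveCompatible p).1 hp k j hk)
  obtain ⟨t', ht', -⟩ := existsUnique_sieve hT (F := (yon S).obj U) (fun W' k hk => (yon S).map (p k hk).t)
    fun W' W'' k hk j => by rw [← Functor.map_comp, hp' k hk j]; rfl
  let t : W ⟶ U := (yon S).preimage t'
  have ht : ∀ ⦃W'⦄ (k : W' ⟶ W) (hk : T k), (p k hk).t = k ≫ t := fun W' k hk =>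
    (yon S).map_injective (by rw [Functor.map_comp, Functor.map_preimage]; exact (ht' k hk).symm)
  have key : ∀ (a : R.arrows.category) (W' : Over S) (h : W' ⟶ W) (g : W' ⟶ a.obj.left),
      h ≫ t = g ≫ a.obj.hom → ∃! x : (yon S).obj W' ⟶ D.F a,
        ∀ (W'' : Over S) (j : W'' ⟶ W') (hj : T (j ≫ h)) e,
          (yon S).map j ≫ x = (p (j ≫ h) hj).x a W'' (𝟙 W'') (j ≫ g) e := by
    intro a W' h g e
    have hpull : T.pullback h ∈ (J S) W' := (J S).pullback_stable _ hT
    obtain ⟨x, hx, hxu⟩ := existsUnique_sieve hpull (F := D.F a)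
      (fun W'' j hj => (p (j ≫ h) hj).x a W'' (𝟙 W'') (j ≫ g)
        (by rw [Category.id_comp, ht, Category.assoc, Category.assoc, e]))
      (fun W'' W''' j hj i => by
        rw [(p (j ≫ h) hj).x_base a _ _ _ _ _ i (by
          rw [Category.comp_id, ht]; simp [e])]
        have hh : p ((i ≫ j) ≫ h) ((T.pullback h).downward_closed hj i) = (p (j ≫ h) hj).res i := by
          rw [← hp' (j ≫ h) hj i]
          congr 1
          try exact Category.assoc _ _ _
        rw [GPt.x_congr hh rfl rfl _ (by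
          change 𝟙 W''' ≫ i ≫ (p (j ≫ h) hj).t = _
          rw [Category.id_comp, ht]; simp [e])]
        exact GPt.x_congr rfl ((Category.comp_id _).trans (Category.id_comp _).symm)
          (Category.assoc _ _ _).symm _ _)
    exact ⟨x, fun W'' j hj e' => hx j hj, fun x' hx' => hxu x' fun W'' j hj => hx' W'' j hj _⟩
  choose x hx hxu using key
  let q : GPt D W :=
    { t := t
      x := x
      x_q := fun a W' h g e => hom_ext_sieve ((J S).pullback_stable h hT) fun W'' j hj => by
        rw [← Category.assoc, hx a W' h g e W'' j hj (by rw [Category.id_comp, ht, Category.assoc,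
          Category.assoc, e]), (p _ hj).x_q, Functor.map_comp]
      x_base := fun a W' h g e W'' j e' => hom_ext_sieve ((J S).pullback_stable (j ≫ h) hT) fun W₃ i hi => by
        have hi' : T ((i ≫ j) ≫ h) := by rw [Category.assoc]; exact hi
        rw [← Category.assoc, ← Functor.map_comp,
          hx a W' h g e W₃ (i ≫ j) hi' (by rw [Category.id_comp, ht]; simp [e]),
          hx a W'' (j ≫ h) (j ≫ g) e' W₃ i hi (by rw [Category.id_comp, ht]; simp [e])]
        exact GPt.x_congr (by congr 1; try exact Category.assoc _ _ _) rfl (Category.assoc _ _ _) _ _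
      x_map := fun a b m W' h g e e' => hom_ext_sieve ((J S).pullback_stable h hT) fun W'' j hj => by
        rw [← Category.assoc, hx a W' h g e W'' j hj (by rw [Category.id_comp, ht]; simp [e]),
          hx b W' h (g ≫ m.hom.left) e' W'' j hj (by rw [Category.id_comp, ht]; simp [e']),
          (p _ hj).x_map a b m _ _ _ _ (by rw [Category.id_comp, ht]; simp [e'])]
        exact GPt.x_congr rfl rfl (Category.assoc _ _ _) _ _ }
  refine ⟨q, fun W₁ k hk => GPt.ext' (ht k hk).symm fun a W' h g e e' => ?_, fun q' hq' => ?_⟩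
  · change x a W' (h ≫ k) g _ = (p k hk).x a W' h g e'
    refine (hxu _ _ _ _ _ _ fun W'' j hj e'' => ?_).symm
    have hh : p (j ≫ h ≫ k) hj = (p k hk).res (j ≫ h) := by
      rw [← hp' k hk (j ≫ h)]
      congr 1
      try exact (Category.assoc _ _ _).symm
    rw [(p k hk).x_base a W' h g e' W'' j (by rw [Category.assoc, e', Category.assoc]),
      GPt.x_congr hh rfl rfl e'' (by
        change 𝟙 W'' ≫ (j ≫ h) ≫ (p k hk).t = _
        rw [Category.id_comp, Category.assoc, e', Category.assoc])]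
    exact GPt.x_congr rfl (Category.id_comp _).symm rfl _ _
  · have ht'' : q'.t = t := (yon S).map_injective (hom_ext_sieve hT fun W' k hk => by
      rw [← Functor.map_comp, ← Functor.map_comp, ← ht k hk, ← hq' k hk]
      rfl)
    refine GPt.ext' ht'' fun a W' h g e e' => hxu a W' h g e' _ fun W'' j hj e'' => ?_
    rw [q'.x_base a W' h g e W'' j (by rw [Category.assoc, e, Category.assoc]),
      GPt.x_congr (hq' (j ≫ h) hj).symm rfl rfl e'' (by
        change 𝟙 W'' ≫ (j ≫ h) ≫ q'.t = _
        rw [Category.id_comp, Category.assoc, e, Category.assoc])]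
    exact GPt.x_congr rfl (Category.id_comp _).symm rfl _ _

/-- The glued sheaf. -/
noncomputable def gluedSh (D : GData R) : Sp S := ⟨gluedPsh D, isSheaf_gluedPsh D⟩

/-- The element of a section of the glued sheaf. -/
noncomputable def ptOf {W : Over S} (p : (yon S).obj W ⟶ gluedSh D) : GPt D W := (J S).uliftYonedaEquiv.{u+1} p

theorem ptOf_res {W W' : Over S} (j : W' ⟶ W) (p : (yon S).obj W ⟶ gluedSh D) :
    ptOf ((yon S).map j ≫ p) = (ptOf p).res j :=
  (GrothendieckTopology.uliftYonedaEquiv_naturality.{u+1} (J S) p j).symm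

theorem ptOf_injective {W : Over S} {p p' : (yon S).obj W ⟶ gluedSh D} (h : ptOf p = ptOf p') : p = p' :=
  (J S).uliftYonedaEquiv.{u+1}.injective h

/-- The section of a piece at a common refinement. -/
theorem exists_glued (D : GData R) :
    ∃ (P : Sp S) (r : P ⟶ (yon S).obj U) (ι : ∀ a, D.F a ⟶ P), IsGlued D r ι := by
  have key : ∀ (a : R.arrows.category) (W : Over S) (l : (yon S).obj W ⟶ D.F a),
      ∃ P : GPt D W, P.t = (yon S).preimage (l ≫ D.q a) ≫ a.obj.hom ∧
      ∀ b W' h g e, ∀ (ht : R (g ≫ b.obj.hom)) (m₁ : rObj (g ≫ b.obj.hom) ht ⟶ a),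
        m₁.hom.left = h ≫ (yon S).preimage (l ≫ D.q a) → ∀ z : (yon S).obj W' ⟶ D.F (rObj (g ≫ b.obj.hom) ht),
          z ≫ D.map m₁ = (yon S).map h ≫ l → z ≫ D.q _ = 𝟙 ((yon S).obj W') →
          P.x b W' h g e = z ≫ D.map (rHom g rfl) := by
    intro a W l
    let v := (yon S).preimage (l ≫ D.q a)
    have ex : ∀ (b : R.arrows.category) (W' : Over S) (h : W' ⟶ W) (g : W' ⟶ b.obj.left),
        h ≫ v ≫ a.obj.hom = g ≫ b.obj.hom → ∀ ht : R (g ≫ b.obj.hom),
        ∃ (m₁ : rObj (g ≫ b.obj.hom) ht ⟶ a) (z : (yon S).obj W' ⟶ D.F (rObj (g ≫ b.obj.hom) ht)),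
          m₁.hom.left = h ≫ v ∧ z ≫ D.map m₁ = (yon S).map h ≫ l ∧ z ≫ D.q _ = 𝟙 ((yon S).obj W') :=
      fun b W' h g e ht => by
        let m₁ : rObj (g ≫ b.obj.hom) ht ⟶ a := rHom (h ≫ v) ((Category.assoc _ _ _).trans e)
        refine ⟨m₁, (D.cart m₁).lift ((yon S).map h ≫ l) (𝟙 _) ?_, rfl, (D.cart m₁).lift_fst _ _ _,
          (D.cart m₁).lift_snd _ _ _⟩
        change _ = 𝟙 _ ≫ (yon S).map (h ≫ v)
        rw [Category.assoc, Category.id_comp, Functor.map_comp, Functor.map_preimage]
    choose M Z hM hZ hZq using ex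
    have uq : ∀ {b W' h g e ht} (m₁ : rObj (g ≫ b.obj.hom) ht ⟶ a), m₁.hom.left = h ≫ v →
        ∀ z, z ≫ D.map m₁ = (yon S).map h ≫ l → z ≫ D.q _ = 𝟙 ((yon S).obj W') → Z b W' h g e ht = z := by
      intro b W' h g e ht m₁ hm z hz hzq
      have em : M b W' h g e ht = m₁ :=
        ObjectProperty.hom_ext _ (Over.OverMorphism.ext ((hM b W' h g e ht).trans hm.symm))
      refine (D.cart m₁).hom_ext ?_ ((hZq b W' h g e ht).trans hzq.symm)
      rw [hz, ← em, hZ]
    refine ⟨{ t := v ≫ a.obj.hom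
              x := fun b W' h g e => Z b W' h g e (R.downward_closed b.property g) ≫ D.map (rHom g rfl)
              x_q := fun b W' h g e => ?_
              x_base := fun b W' h g e W'' j e' => ?_
              x_map := fun b b' m W' h g e e' => ?_ }, rfl, fun b W' h g e ht m₁ hm z hz hzq => ?_⟩
    · rw [Category.assoc, (D.cart _).w, ← Category.assoc, hZq, Category.id_comp]
      rfl
    · let n : rObj (R := R) ((j ≫ g) ≫ b.obj.hom) (R.downward_closed b.property _) ⟶
          rObj (g ≫ b.obj.hom) (R.downward_closed b.property g) := rHom j (Category.assoc _ _ _).symm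
      let z := (D.cart n).lift ((yon S).map j ≫ Z b W' h g e (R.downward_closed b.property g)) (𝟙 _) (by
        change _ = 𝟙 _ ≫ (yon S).map j
        rw [Category.assoc, hZq, Category.comp_id, Category.id_comp])
      have hz : Z b W'' (j ≫ h) (j ≫ g) e' (R.downward_closed b.property _) = z :=
        uq (n ≫ M b W' h g e (R.downward_closed b.property g))
          (show j ≫ (M b W' h g e _).hom.left = _ by rw [hM, Category.assoc]) z
          (by rw [D.map_comp, ← Category.assoc z, (D.cart n).lift_fst, Category.assoc, hZ, Functor.map_comp,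
            Category.assoc]) ((D.cart n).lift_snd _ _ _)
      have hn : n ≫ rHom g rfl = rHom (R := R) (a := b) (j ≫ g) rfl :=
        ObjectProperty.hom_ext _ (Over.OverMorphism.ext rfl)
      rw [hz, ← hn, D.map_comp, ← Category.assoc z, (D.cart n).lift_fst, Category.assoc]
    · let n : rObj (R := R) (g ≫ b.obj.hom) (R.downward_closed b.property g) ⟶
          rObj ((g ≫ m.hom.left) ≫ b'.obj.hom) (R.downward_closed b'.property _) :=
        rHom (𝟙 W') ((Category.id_comp _).trans ((Category.assoc _ _ _).trans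
          (congrArg (g ≫ ·) (Over.w m.hom))))
      have hz := uq (b := b) (e := e) (ht := R.downward_closed b.property g)
        (n ≫ M b' W' h (g ≫ m.hom.left) e' (R.downward_closed b'.property _))
        (show 𝟙 W' ≫ (M b' W' h (g ≫ m.hom.left) e' _).hom.left = _ by rw [hM, Category.id_comp])
        ((D.cart n).lift (Z b' W' h (g ≫ m.hom.left) e' (R.downward_closed b'.property _)) (𝟙 _) (by
          change _ = 𝟙 _ ≫ (yon S).map (𝟙 W')
          rw [hZq, CategoryTheory.Functor.map_id, Category.comp_id]))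
        (by rw [D.map_comp, ← Category.assoc, (D.cart n).lift_fst, hZ]) ((D.cart n).lift_snd _ _ _)
      have hn : rHom (R := R) g rfl ≫ m = n ≫ rHom (R := R) (a := b') (g ≫ m.hom.left) rfl :=
        ObjectProperty.hom_ext _ (Over.OverMorphism.ext (Category.id_comp _).symm)
      rw [hz, Category.assoc, ← D.map_comp, hn, D.map_comp, ← Category.assoc, (D.cart n).lift_fst]
    · change Z b W' h g e ht ≫ _ = _
      rw [uq m₁ hm z hz hzq]
  choose pt hptt hptx using key
  let r : gluedSh D ⟶ (yon S).obj U := homOfPts (fun W p => (yon S).map (ptOf p).t) fun W W' j p => by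
    rw [ptOf_res, ← Functor.map_comp]; rfl
  have hr : ∀ {W : Over S} (p : (yon S).obj W ⟶ gluedSh D), p ≫ r = (yon S).map (ptOf p).t :=
    fun p => pts_homOfPts _ _ p
  let ι : ∀ a, D.F a ⟶ gluedSh D := fun a => homOfPts
    (fun W l => (J S).uliftYonedaEquiv.{u+1}.symm (pt a W l : (gluedSh D).obj.obj (op W))) fun W W' j l => by
      apply ptOf_injective
      rw [ptOf_res]
      simp only [ptOf, Equiv.apply_symm_apply]
      have hv : (yon S).preimage (((yon S).map j ≫ l) ≫ D.q a) = j ≫ (yon S).preimage (l ≫ D.q a) :=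
        (yon S).map_injective (by simp)
      refine GPt.ext' ?_ fun b W'' h g e e' => ?_
      · change j ≫ (pt a W l).t = (pt a W' ((yon S).map j ≫ l)).t
        rw [hptt, hptt, hv, Category.assoc]
      · change (pt a W l).x b W'' (h ≫ j) g _ = _
        have ht : R (g ≫ b.obj.hom) := R.downward_closed b.property g
        have e₁ : (h ≫ j ≫ (yon S).preimage (l ≫ D.q a)) ≫ a.obj.hom = g ≫ b.obj.hom := by
          rw [← e]
          change _ = h ≫ j ≫ (pt a W l).t
          rw [hptt, Category.assoc, Category.assoc]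
        let m₁ : rObj (g ≫ b.obj.hom) ht ⟶ a := rHom (h ≫ j ≫ (yon S).preimage (l ≫ D.q a)) e₁
        let z := (D.cart m₁).lift ((yon S).map (h ≫ j) ≫ l) (𝟙 _) (by
          change _ = 𝟙 _ ≫ (yon S).map (h ≫ j ≫ (yon S).preimage (l ≫ D.q a))
          simp)
        rw [hptx a W l b W'' (h ≫ j) g _ ht m₁ (Category.assoc _ _ _).symm z ((D.cart m₁).lift_fst _ _ _)
            ((D.cart m₁).lift_snd _ _ _),
          hptx a W' _ b W'' h g e' ht m₁ (by rw [hv]; rfl) z
            (by rw [(D.cart m₁).lift_fst, Functor.map_comp, Category.assoc]) ((D.cart m₁).lift_snd _ _ _)]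
  have hι : ∀ {a} {W : Over S} (l : (yon S).obj W ⟶ D.F a), ptOf (l ≫ ι a) = pt a W l := fun l => by
    rw [pts_homOfPts]; exact Equiv.apply_symm_apply _ _
  refine ⟨gluedSh D, r, ι, ⟨fun {a a'} n => hom_ext_of_yon fun W l => ?_, fun a => ?_⟩⟩
  · apply ptOf_injective
    rw [← Category.assoc, hι, hι]
    have hv : (yon S).preimage ((l ≫ D.map n) ≫ D.q a') = (yon S).preimage (l ≫ D.q a) ≫ n.hom.left :=
      (yon S).map_injective (by simp [(D.cart n).w])
    refine GPt.ext' ?_ fun b W' h g e e' => ?_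
    · rw [hptt, hptt, hv, Category.assoc, Over.w n.hom]
    · have ht : R (g ≫ b.obj.hom) := R.downward_closed b.property g
      let m₁ : rObj (g ≫ b.obj.hom) ht ⟶ a := rHom (h ≫ (yon S).preimage (l ≫ D.q a)) (by
        rw [← e', hptt, Category.assoc])
      let z := (D.cart m₁).lift ((yon S).map h ≫ l) (𝟙 _) (by
        change _ = 𝟙 _ ≫ (yon S).map (h ≫ (yon S).preimage (l ≫ D.q a))
        simp)
      rw [hptx a W l b W' h g e' ht m₁ rfl z ((D.cart m₁).lift_fst _ _ _) ((D.cart m₁).lift_snd _ _ _),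
        hptx a' W _ b W' h g e ht (m₁ ≫ n)
          (by rw [hv]; exact (Category.assoc _ _ _)) z
          (by rw [D.map_comp, ← Category.assoc z, (D.cart m₁).lift_fst, Category.assoc]) ((D.cart m₁).lift_snd _ _ _)]
  · refine isPullback_of_pts ?_ fun W p b₀ e => ?_
    · refine hom_ext_of_yon fun W l => ?_
      rw [← Category.assoc, hr, hι, hptt, ← Category.assoc, Functor.map_comp, Functor.map_preimage]
    · have hp : 𝟙 W ≫ (ptOf p).t = (yon S).preimage b₀ ≫ a.obj.hom := (yon S).map_injective (by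
        rw [Category.id_comp, ← hr, Functor.map_comp, Functor.map_preimage]; exact e)
      refine ⟨(ptOf p).x a W (𝟙 W) _ hp, ⟨?_, by rw [(ptOf p).x_q, Functor.map_preimage]⟩, fun l hl => ?_⟩
      · apply ptOf_injective
        rw [hι]
        have hv : (yon S).preimage ((ptOf p).x a W (𝟙 W) _ hp ≫ D.q a) = (yon S).preimage b₀ :=
          (yon S).map_injective (by rw [Functor.map_preimage, (ptOf p).x_q])
        refine GPt.ext' ?_ fun b W' h g e₁ e₂ => ?_
        · rw [hptt, hv, ← hp, Category.id_comp]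
        · have ht : R (g ≫ b.obj.hom) := R.downward_closed b.property g
          have ec : (h ≫ (yon S).preimage b₀) ≫ a.obj.hom = g ≫ b.obj.hom := by
            rw [Category.assoc, ← hp, Category.id_comp, e₂]
          let m₁ : rObj (g ≫ b.obj.hom) ht ⟶ a := rHom (h ≫ (yon S).preimage b₀) ec
          have hc : h ≫ (ptOf p).t = 𝟙 W' ≫ (rObj (R := R) (g ≫ b.obj.hom) ht).obj.hom := by
            rw [e₂]; exact (Category.id_comp _).symm
          let y := (ptOf p).x (rObj (g ≫ b.obj.hom) ht) W' h (𝟙 W') hc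
          have hy : y ≫ D.map m₁ = (yon S).map h ≫ (ptOf p).x a W (𝟙 W) _ hp := by
            rw [(ptOf p).x_base a W _ _ _ W' h (by rw [Category.comp_id, Category.assoc, ← hp, Category.id_comp]),
              (ptOf p).x_map _ a m₁ _ _ _ _ (by
                rw [Category.id_comp]; exact e₂.trans ec.symm)]
            exact GPt.x_congr rfl (Category.comp_id _).symm (Category.id_comp _) _ _
          rw [hptx a W _ b W' h g e₁ ht m₁ (by rw [hv]; rfl) y hy
            (by rw [(ptOf p).x_q]; exact (yon S).map_id _),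
            (ptOf p).x_map _ b (rHom g rfl) _ _ _ _ (by rw [Category.id_comp]; exact e₂)]
          exact GPt.x_congr rfl rfl (Category.id_comp _) _ _
      · have hv : (yon S).preimage (l ≫ D.q a) = (yon S).preimage b₀ := by rw [hl.2]
        have hpt : ptOf p = pt a W l := by rw [← hl.1, hι]
        rw [GPt.x_congr hpt rfl rfl hp (by rw [← hpt]; exact hp)]
        have ht : R ((yon S).preimage b₀ ≫ a.obj.hom) := R.downward_closed a.property _
        let m₁ : rObj ((yon S).preimage b₀ ≫ a.obj.hom) ht ⟶ a := rHom ((yon S).preimage b₀) rfl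
        let z := (D.cart m₁).lift l (𝟙 ((yon S).obj W)) (by
          change _ = 𝟙 _ ≫ (yon S).map ((yon S).preimage b₀)
          simp [hl.2])
        rw [hptx a W l a W (𝟙 W) _ _ ht m₁ (by rw [hv, Category.id_comp]; rfl) z
          (by rw [(D.cart m₁).lift_fst, CategoryTheory.Functor.map_id, Category.id_comp]) ((D.cart m₁).lift_snd _ _ _)]
        exact ((D.cart m₁).lift_fst _ _ _).symm

end

end Groth.Agent.SpTorsLib
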